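import Mathlib
import Cfsg.Agent.PermGroups.PrimeDegree
import Cfsg.Agent.Solvable.MinNormal

/-!
Solvable groups of permutations of `ZMod (p ^ a)` containing the shift `x ↦ x + 1`:
they preserve congruence mod `p` and their `p`-elements move all residues by one constant.
-/

set_option autoImplicit false
set_option linter.style.haveILetI false

open Equiv MulAction

namespace CfsgLib.PermGroups.CycleSolvable54

theorem perm_inv_apply_self {X : Type*} (f : Perm X) (x : X) : f⁻¹ (f x) = x := f.symm_apply_apply x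

theorem perm_apply_inv_self {X : Type*} (f : Perm X) (x : X) : f (f⁻¹ x) = x := f.apply_symm_apply x

/-- The shift. -/
def shift (m : ℕ) : Perm (ZMod m) := Equiv.addRight (1 : ZMod m)

@[simp] theorem shift_apply {m : ℕ} (x : ZMod m) : shift m x = x + 1 := rfl

theorem shift_pow_apply {m : ℕ} (k : ℕ) (x : ZMod m) : (shift m ^ k) x = x + k := by
  induction k with
  | zero => simp
  | succ k ih => rw [pow_succ', Perm.mul_apply, ih, shift_apply, Nat.cast_succ, add_assoc]

theorem shift_pow_card {m : ℕ} : shift m ^ m = 1 :=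
  Equiv.ext fun x => by rw [shift_pow_apply, ZMod.natCast_self, add_zero, Perm.one_apply]

/-- Permutations preserving the fibres of a surjection descend. -/
theorem exists_descend {X Y : Type*} (f : X → Y) (hf : Function.Surjective f)
    (G : Subgroup (Perm X)) (h : ∀ g ∈ G, ∀ x y, f x = f y → f (g x) = f (g y)) :
    ∃ π : G →* Perm Y, ∀ (g : G) (x : X), π g (f x) = f ((g : Perm X) x) := by
  have key : ∀ g ∈ G, ∀ x, f (g (Function.surjInv hf (f x))) = f (g x) :=
    fun g hg x => h g hg _ _ (Function.surjInv_eq hf _)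
  let F : Perm X → Y → Y := fun g y => f (g (Function.surjInv hf y))
  have hF : ∀ g ∈ G, ∀ x, F g (f x) = f (g x) := key
  let π : G → Perm Y := fun g =>
    { toFun := F g
      invFun := F (g : Perm X)⁻¹
      left_inv := fun y => by
        obtain ⟨x, rfl⟩ := hf y
        rw [hF _ g.2, hF _ (inv_mem g.2), perm_inv_apply_self]
      right_inv := fun y => by
        obtain ⟨x, rfl⟩ := hf y
        rw [hF _ (inv_mem g.2), hF _ g.2, perm_apply_inv_self] }
  refine ⟨MonoidHom.mk' π fun a b => ?_, fun g x => hF _ g.2 x⟩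
  ext y
  obtain ⟨x, rfl⟩ := hf y
  change F (a * b : Perm X) (f x) = F a (F b (f x))
  rw [hF _ (mul_mem a.2 b.2), hF _ b.2, hF _ a.2, Perm.mul_apply]

/-- A `p`-element normalising a nontrivial `p`-group centralises a nontrivial element of it. -/
theorem exists_fixed_conj {G : Type*} [Group G] {p : ℕ} [Fact p.Prime] (M : Subgroup G) [Finite M]
    (hM : M ≠ ⊥) (hpM : IsPGroup p M) (t : G) (ht : ∃ k : ℕ, t ^ p ^ k = 1)
    (hn : ∀ f ∈ M, t * f * t⁻¹ ∈ M) : ∃ f ∈ M, f ≠ 1 ∧ t * f = f * t := by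
  obtain ⟨k, hk⟩ := ht
  let S : Subgroup G := Subgroup.zpowers t
  have hS : IsPGroup p S := by
    rintro ⟨s, i, rfl⟩
    refine ⟨k, Subtype.ext ?_⟩
    change (t ^ i) ^ p ^ k = 1
    rw [← zpow_natCast, ← zpow_mul, mul_comm, zpow_mul, zpow_natCast, hk, one_zpow]
  have hnS : ∀ s ∈ S, ∀ f ∈ M, s * f * s⁻¹ ∈ M := by
    have hpow : ∀ (i : ℕ), ∀ f ∈ M, t ^ i * f * (t ^ i)⁻¹ ∈ M := by
      intro i
      induction i with
      | zero => intro f hf; simpa using hf
      | succ i ih =>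
        intro f hf
        have := hn _ (ih f hf)
        rw [pow_succ']
        rwa [show t * t ^ i * f * (t * t ^ i)⁻¹ = t * (t ^ i * f * (t ^ i)⁻¹) * t⁻¹ by group]
    rintro s ⟨i, rfl⟩ f hf
    change t ^ i * f * (t ^ i)⁻¹ ∈ M
    have hfin : IsOfFinOrder t :=
      isOfFinOrder_iff_pow_eq_one.2 ⟨p ^ k, pow_pos (Fact.out : p.Prime).pos k, hk⟩
    obtain ⟨j, hj⟩ : ∃ j : ℕ, t ^ j = t ^ i :=
      hfin.mem_powers_iff_mem_zpowers.2 ⟨i, rfl⟩
    rw [← hj]
    exact hpow j f hf
  letI : MulAction S M :=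
    { smul := fun s f => ⟨(s : G) * f * (s : G)⁻¹, hnS s s.2 f f.2⟩
      one_smul := fun f => Subtype.ext (show (1 : G) * f * (1 : G)⁻¹ = f by group)
      mul_smul := fun a b f => Subtype.ext (show ((a : G) * b) * f * ((a : G) * b)⁻¹ =
        (a : G) * ((b : G) * f * (b : G)⁻¹) * (a : G)⁻¹ by group) }
  have hpd : p ∣ Nat.card M := by
    haveI : Nontrivial M := (Subgroup.nontrivial_iff_ne_bot M).2 hM
    obtain ⟨j, hj, hj'⟩ := hpM.nontrivial_iff_card.1 inferInstance
    rw [hj']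
    exact dvd_pow_self p hj.ne'
  have h1 : (1 : M) ∈ fixedPoints S M := fun s => Subtype.ext (show (s : G) * 1 * (s : G)⁻¹ = 1 by group)
  obtain ⟨b, hb, hb1⟩ := hS.exists_fixed_point_of_prime_dvd_card_of_fixed_point M hpd h1
  refine ⟨b, b.2, fun e => hb1 (Subtype.ext e.symm), ?_⟩
  have := congrArg Subtype.val (hb ⟨t, Subgroup.mem_zpowers t⟩)
  change t * (b : G) * t⁻¹ = b at this
  exact mul_inv_eq_iff_eq_mul.1 this

theorem apply_eq_of_commute_shift {m : ℕ} [NeZero m] {f : Perm (ZMod m)}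
    (h : shift m * f = f * shift m) (x : ZMod m) : f x = x + f 0 := by
  have h1 : ∀ y, f (y + 1) = f y + 1 := fun y => by
    simpa using (Equiv.congr_fun h y).symm
  obtain ⟨k, rfl⟩ := ZMod.natCast_zmod_surjective x
  induction k with
  | zero => simp
  | succ k ih => rw [Nat.cast_succ, h1, ih]; ring

/-- No regular elementary abelian group is normalised by a cycle of length `p ^ a`, `2 ≤ a`. -/
theorem not_elementary_normalized {p : ℕ} [hp : Fact p.Prime] (hp2 : 2 < p) :
    ∀ a, 2 ≤ a → ∀ N : Subgroup (Perm (ZMod (p ^ a))),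
      (∀ f ∈ N, shift (p ^ a) * f * (shift (p ^ a))⁻¹ ∈ N) →
      (∀ f ∈ N, ∀ g ∈ N, f * g = g * f) → (∀ f ∈ N, f ^ p = 1) →
      (∀ x, ∃ f ∈ N, f 0 = x) → False := by
  intro a ha
  induction a, ha using Nat.le_induction with
  | base =>
    intro N hn hc he htr
    haveI : NeZero (p ^ 2) := ⟨(pow_pos hp.out.pos _).ne'⟩
    set t := shift (p ^ 2) with ht
    have hreg : ∀ f ∈ N, ∀ g ∈ N, f 0 = g 0 → f = g := by
      intro f hf g hg h
      ext x
      obtain ⟨k, hk, rfl⟩ := htr x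
      rw [← Perm.mul_apply, ← Perm.mul_apply, hc f hf k hk, hc g hg k hk, Perm.mul_apply,
        Perm.mul_apply, h]
    have hcard : Nat.card N = p ^ 2 := by
      refine (Nat.card_eq_of_bijective (fun f : N => (f : Perm (ZMod (p ^ 2))) 0)
        ⟨fun f g h => Subtype.ext (hreg f f.2 g g.2 h), fun x => ?_⟩).trans (Nat.card_zmod (p ^ 2))
      obtain ⟨f, hf, h⟩ := htr x
      exact ⟨⟨f, hf⟩, h⟩
    have hpN : IsPGroup p N := IsPGroup.of_card hcard
    have htp : ∃ k : ℕ, t ^ p ^ k = 1 := ⟨2, shift_pow_card⟩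
    have hNb : N ≠ ⊥ := fun h => by
      rw [h, Subgroup.card_bot] at hcard
      exact absurd hcard.symm (Nat.one_lt_pow two_ne_zero hp.out.one_lt).ne'
    -- the map `f ↦ [t, f]`
    let ψ : N →* N := MonoidHom.mk' (fun f => ⟨t * f * t⁻¹ * (f : Perm (ZMod (p ^ 2)))⁻¹, N.mul_mem (hn f f.2) (N.inv_mem f.2)⟩)
      (fun f g => Subtype.ext (by
        change t * ((f : Perm (ZMod (p ^ 2))) * g) * t⁻¹ * ((f : Perm (ZMod (p ^ 2))) * g)⁻¹ =
          (t * f * t⁻¹ * (f : Perm (ZMod (p ^ 2)))⁻¹) * (t * g * t⁻¹ * (g : Perm (ZMod (p ^ 2)))⁻¹)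
        have e1 := hc _ (hn g g.2) _ (N.inv_mem f.2)
        calc t * ((f : Perm (ZMod (p ^ 2))) * g) * t⁻¹ * ((f : Perm (ZMod (p ^ 2))) * g)⁻¹
            = t * f * t⁻¹ * (t * g * t⁻¹ * ((g : Perm (ZMod (p ^ 2)))⁻¹ * (f : Perm (ZMod (p ^ 2)))⁻¹)) := by group
          _ = t * f * t⁻¹ * (t * g * t⁻¹ * ((f : Perm (ZMod (p ^ 2)))⁻¹ * (g : Perm (ZMod (p ^ 2)))⁻¹)) := by
              rw [hc _ (N.inv_mem g.2) _ (N.inv_mem f.2)]
          _ = t * f * t⁻¹ * (t * g * t⁻¹ * (f : Perm (ZMod (p ^ 2)))⁻¹ * (g : Perm (ZMod (p ^ 2)))⁻¹) := by group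
          _ = t * f * t⁻¹ * ((f : Perm (ZMod (p ^ 2)))⁻¹ * (t * g * t⁻¹) * (g : Perm (ZMod (p ^ 2)))⁻¹) := by rw [e1]
          _ = _ := by group))
    obtain ⟨z, hz, hz1, hzt⟩ := exists_fixed_conj N hNb hpN t htp hn
    have hker : ψ.ker ≠ ⊥ := fun h => by
      have : (⟨z, hz⟩ : N) ∈ ψ.ker := by
        rw [MonoidHom.mem_ker]
        exact Subtype.ext (show t * z * t⁻¹ * z⁻¹ = 1 by rw [hzt]; group)
      rw [h, Subgroup.mem_bot] at this
      exact hz1 (congrArg Subtype.val this)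
    have hrange : Nat.card ψ.range ≤ p := by
      have h1 := Subgroup.index_ker ψ
      have h2 := ψ.ker.index_mul_card
      rw [h1, hcard] at h2
      obtain ⟨j, hj, hj'⟩ : ∃ j > 0, Nat.card ψ.ker = p ^ j := by
        haveI : Nontrivial ψ.ker := (Subgroup.nontrivial_iff_ne_bot _).2 hker
        exact (hpN.to_subgroup ψ.ker).nontrivial_iff_card.1 inferInstance
      rw [hj'] at h2
      have : p ≤ p ^ j := Nat.le_self_pow (by omega) p
      nlinarith [hp.out.pos]
    -- the range is centralised by `t`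
    let M : Subgroup (Perm (ZMod (p ^ 2))) := ψ.range.map N.subtype
    have hM : ∀ f ∈ M, t * f = f * t := by
      by_cases hMb : M = ⊥
      · intro f hf
        rw [hMb, Subgroup.mem_bot] at hf
        rw [hf, one_mul, mul_one]
      have hMn : ∀ f ∈ M, t * f * t⁻¹ ∈ M := by
        rintro _ ⟨_, ⟨f, rfl⟩, rfl⟩
        refine ⟨ψ ⟨t * f * t⁻¹, hn f f.2⟩, ⟨_, rfl⟩, ?_⟩
        change t * (t * f * t⁻¹) * t⁻¹ * (t * f * t⁻¹)⁻¹ = t * (t * f * t⁻¹ * (f : Perm (ZMod (p ^ 2)))⁻¹) * t⁻¹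
        group
      have hMc : Nat.card M ≤ p := by
        rw [Subgroup.card_map_of_injective N.subtype_injective]; exact hrange
      have hpM : IsPGroup p M := (hpN.to_subgroup ψ.range).map N.subtype
      obtain ⟨m, hm, hm1, hmt⟩ := exists_fixed_conj M hMb hpM t htp hMn
      have hMp : Nat.card M = p := by
        haveI : Nontrivial M := (Subgroup.nontrivial_iff_ne_bot _).2 hMb
        obtain ⟨j, hj, hj'⟩ := hpM.nontrivial_iff_card.1 inferInstance
        have : p ≤ p ^ j := Nat.le_self_pow (by omega) p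
        omega
      intro f hf
      obtain ⟨i, hi⟩ := (zpowers_eq_top_of_prime_card hMp
        (show (⟨m, hm⟩ : M) ≠ 1 from fun e => hm1 (congrArg Subtype.val e))).symm ▸
          Subgroup.mem_top (⟨f, hf⟩ : M)
      have : f = m ^ i := by
        have := congrArg Subtype.val hi
        simpa using this.symm
      rw [this]
      exact (Commute.zpow_right (show Commute t m from hmt) i).eq
    obtain ⟨n, hnN, hn0⟩ := htr 1
    set c := t * n * t⁻¹ * n⁻¹ with hcdef
    have hcM : c ∈ M := ⟨ψ ⟨n, hnN⟩, ⟨_, rfl⟩, rfl⟩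
    have hcN : c ∈ N := N.mul_mem (hn n hnN) (N.inv_mem hnN)
    have hct : Commute t c := hM c hcM
    have hcn : Commute n c := hc n hnN c hcN
    have htn : t * n = n * c * t := by
      rw [hcn.eq, hcdef]; group
    have key : ∀ k : ℕ, (t ^ k) 0 = (n ^ k * c ^ (k.choose 2)) 0 := by
      intro k
      induction k with
      | zero => simp
      | succ k ih =>
        have e : t * (n ^ k * c ^ (k.choose 2)) = n ^ k * c ^ k * c ^ (k.choose 2) * t := by
          have e1 : t * n ^ k * t⁻¹ = n ^ k * c ^ k := by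
            rw [← conj_pow, ← hcn.mul_pow]
            congr 1
            rw [htn]; group
          calc t * (n ^ k * c ^ (k.choose 2))
              = t * n ^ k * t⁻¹ * (t * c ^ (k.choose 2)) := by group
            _ = n ^ k * c ^ k * (c ^ (k.choose 2) * t) := by rw [e1, (hct.pow_right _).eq]
            _ = _ := by group
        rw [pow_succ' t, Perm.mul_apply, ih, ← Perm.mul_apply, e, Perm.mul_apply]
        have e2 : t 0 = n 0 := by rw [ht, shift_apply, zero_add, hn0]
        rw [e2, ← Perm.mul_apply, Nat.choose_succ_succ', Nat.choose_one_right, pow_succ n, pow_add c]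
        congr 1
        rw [mul_assoc, mul_assoc, mul_assoc]
        congr 1
        rw [← mul_assoc, ((hcn.symm.pow_left k).mul_left (hcn.symm.pow_left _)).eq]
    have h2 := key p
    rw [shift_pow_apply, he n hnN, one_mul] at h2
    obtain ⟨r, hr⟩ := hp.out.dvd_choose_self (two_ne_zero) hp2
    rw [hr, pow_mul, he c hcN, one_pow, Perm.one_apply, zero_add] at h2
    have := congrArg ZMod.val h2
    rw [ZMod.val_natCast_of_lt (by nlinarith [hp.out.one_lt]), ZMod.val_zero] at this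
    exact hp.out.ne_zero this
  | succ a ha ih =>
    intro N hn hc he htr
    haveI : NeZero (p ^ (a + 1)) := ⟨(pow_pos hp.out.pos _).ne'⟩
    haveI : NeZero (p ^ a) := ⟨(pow_pos hp.out.pos _).ne'⟩
    set t := shift (p ^ (a + 1)) with ht
    have hpN : IsPGroup p N := fun f => ⟨1, Subtype.ext (by simpa using he f f.2)⟩
    have hNb : N ≠ ⊥ := fun h => by
      obtain ⟨f, hf, hf1⟩ := htr 1
      rw [h, Subgroup.mem_bot] at hf
      rw [hf, Perm.one_apply] at hf1
      haveI : Fact (1 < p ^ (a + 1)) := ⟨Nat.one_lt_pow (by omega) hp.out.one_lt⟩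
      exact zero_ne_one hf1
    obtain ⟨z, hz, hz1, hzt⟩ := exists_fixed_conj N hNb hpN t ⟨a + 1, shift_pow_card⟩ hn
    have hzx := apply_eq_of_commute_shift hzt
    have hzk : ∀ (k : ℕ) x, (z ^ k) x = x + (k : ZMod (p ^ (a + 1))) * z 0 := by
      intro k
      induction k with
      | zero => simp
      | succ k ih =>
        intro x
        rw [pow_succ' z, Perm.mul_apply, ih, hzx, Nat.cast_succ]; ring
    set e := ZMod.castHom (pow_dvd_pow p (Nat.le_add_right a 1)) (ZMod (p ^ a)) with hedef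
    -- translation by multiples of `p ^ a` commutes with `N`
    have hfib : ∀ f ∈ N, ∀ x y, e x = e y → e (f x) = e (f y) := by
      intro f hf x y hxy
      have hz0 : z 0 ≠ 0 := fun h => hz1 (Equiv.ext fun w => by rw [hzx, h, add_zero]; rfl)
      have hval : p ^ a ∣ (z 0).val := by
        have h1 := hzk p 0
        rw [he z hz, Perm.one_apply, zero_add] at h1
        have h2 : ((p * (z 0).val : ℕ) : ZMod (p ^ (a + 1))) = 0 := by
          rw [Nat.cast_mul, ZMod.natCast_zmod_val, ← h1]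
        rw [ZMod.natCast_eq_zero_iff] at h2
        exact Nat.dvd_of_mul_dvd_mul_left hp.out.pos ((dvd_of_eq (pow_succ' p a).symm).trans h2)
      obtain ⟨c, hcc⟩ := hval
      have hc0 : ¬ p ∣ c := fun ⟨r, hr⟩ => hz0 (by
        rw [← ZMod.natCast_zmod_val (z 0), hcc, hr, ← mul_assoc, ← pow_succ, Nat.cast_mul,
          ZMod.natCast_self, zero_mul])
      obtain ⟨k, hk⟩ : ∃ k : ℕ, ((k * c : ℕ) : ZMod (p ^ (a + 1))) = 1 := by
        have hu : IsUnit (c : ZMod (p ^ (a + 1))) :=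
          (ZMod.isUnit_iff_coprime c _).2 ((hp.out.coprime_iff_not_dvd.2 hc0).symm.pow_right _)
        obtain ⟨k, hk⟩ := ZMod.natCast_zmod_surjective (hu.unit⁻¹ : (ZMod (p ^ (a + 1)))ˣ).val
        exact ⟨k, by rw [Nat.cast_mul, hk]; exact hu.val_inv_mul⟩
      have hexy : e (y - x) = 0 := by rw [map_sub, hxy, sub_self]
      have hd : p ^ a ∣ (y - x).val := by
        rw [← ZMod.natCast_zmod_val (y - x), map_natCast, ZMod.natCast_eq_zero_iff] at hexy
        exact hexy
      obtain ⟨r, hr⟩ := hd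
      have hy : y = (z ^ (r * k)) x := by
        rw [hzk, ← ZMod.natCast_zmod_val (z 0), hcc, ← Nat.cast_mul,
          show r * k * (p ^ a * c) = p ^ a * r * (k * c) by ring, Nat.cast_mul, hk, mul_one, ← hr,
          ZMod.natCast_zmod_val, add_sub_cancel]
      rw [hy, ← Perm.mul_apply, hc f hf _ (N.pow_mem hz _), Perm.mul_apply, hzk, map_add, map_mul]
      have : e (z 0) = 0 := by
        rw [← ZMod.natCast_zmod_val (z 0), hcc, map_natCast, Nat.cast_mul, ZMod.natCast_self,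
          zero_mul]
      rw [this, mul_zero, add_zero]
    obtain ⟨π, hπ⟩ := exists_descend e (ZMod.castHom_surjective _) N hfib
    refine ih π.range ?_ ?_ ?_ ?_
    · rintro _ ⟨f, rfl⟩
      refine ⟨⟨_, hn f f.2⟩, ?_⟩
      ext x
      obtain ⟨x, rfl⟩ := ZMod.castHom_surjective (pow_dvd_pow p (Nat.le_add_right a 1)) x
      rw [hπ]
      have e1 : ∀ w, (shift (p ^ (a + 1)))⁻¹ w = w - 1 := fun w => by
        rw [Perm.inv_eq_iff_eq, shift_apply, sub_add_cancel]
      have e2 : ∀ w, (shift (p ^ a))⁻¹ w = w - 1 := fun w => by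
        rw [Perm.inv_eq_iff_eq, shift_apply, sub_add_cancel]
      simp only [Perm.mul_apply, e1, e2, shift_apply, ht]
      rw [map_add, map_one, ← hedef, ← hπ f, map_sub, map_one]
    · rintro _ ⟨f, rfl⟩ _ ⟨g, rfl⟩
      rw [← map_mul, ← map_mul]
      exact congrArg π (Subtype.ext (hc f f.2 g g.2))
    · rintro _ ⟨f, rfl⟩
      rw [← map_pow, show f ^ p = 1 from Subtype.ext (by simpa using he f f.2), map_one]
    · intro x
      obtain ⟨x, rfl⟩ := ZMod.castHom_surjective (pow_dvd_pow p (Nat.le_add_right a 1)) x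
      obtain ⟨f, hf, h⟩ := htr x
      refine ⟨π ⟨f, hf⟩, ⟨_, rfl⟩, ?_⟩
      rw [← map_zero e, hπ, h]

/-- A solvable group containing the shift preserves congruence mod `p`. -/
theorem preserves_residues {p : ℕ} [hp : Fact p.Prime] (hp2 : 2 < p) :
    ∀ a, (ha : 0 < a) → ∀ G : Subgroup (Perm (ZMod (p ^ a))), Group.IsSolvable G →
      shift (p ^ a) ∈ G → ∀ g ∈ G, ∀ x y : ZMod (p ^ a),
      ZMod.castHom (dvd_pow_self p ha.ne') (ZMod p) x = ZMod.castHom (dvd_pow_self p ha.ne') (ZMod p) y →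
      ZMod.castHom (dvd_pow_self p ha.ne') (ZMod p) (g x) =
        ZMod.castHom (dvd_pow_self p ha.ne') (ZMod p) (g y) := by
  intro a
  induction a using Nat.strong_induction_on with
  | _ a ih =>
  intro ha G hG ht g hg x y hxy
  haveI : NeZero (p ^ a) := ⟨(pow_pos hp.out.pos _).ne'⟩
  rcases Nat.eq_or_lt_of_le (show 1 ≤ a from ha) with h1 | h1
  · subst h1
    have : x = y := by
      apply ZMod.val_injective
      rw [← ZMod.natCast_zmod_val x, ← ZMod.natCast_zmod_val y, map_natCast, map_natCast] at hxy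
      have := congrArg ZMod.val hxy
      rwa [ZMod.val_natCast_of_lt (by simpa using x.val_lt),
        ZMod.val_natCast_of_lt (by simpa using y.val_lt)] at this
    rw [this]
  set t := shift (p ^ a) with htdef
  haveI := hG
  haveI : Fact (1 < p ^ a) := ⟨Nat.one_lt_pow (by omega) hp.out.one_lt⟩
  haveI : Nontrivial G := ⟨⟨t, ht⟩, 1, fun e => by
    have := Equiv.congr_fun (congrArg Subtype.val e) 0
    simp [htdef] at this⟩
  obtain ⟨N, q, k, hNn, hNb, -, hNc, hq, hk, hNk, hNe⟩ :=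
    CfsgLib.Solvable.exists_minimal_normal_of_solvable (G := G)
  let N' : Subgroup (Perm (ZMod (p ^ a))) := N.map G.subtype
  have hN'n : ∀ h ∈ G, ∀ f ∈ N', h * f * h⁻¹ ∈ N' := by
    rintro h hh _ ⟨f, hf, rfl⟩
    exact ⟨⟨h, hh⟩ * f * ⟨h, hh⟩⁻¹, hNn.conj_mem f hf _, rfl⟩
  have hN'c : ∀ f ∈ N', ∀ f' ∈ N', f * f' = f' * f := by
    rintro _ ⟨f, hf, rfl⟩ _ ⟨f', hf', rfl⟩
    exact congrArg (fun r : N => ((r : G) : Perm (ZMod (p ^ a))))
      (hNc.is_comm.comm (⟨f, hf⟩ : N) ⟨f', hf'⟩)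
  -- the orbit of zero is a subgroup
  let S : AddSubgroup (ZMod (p ^ a)) :=
    { carrier := {c | ∃ f ∈ N', f 0 = c}
      zero_mem' := ⟨1, one_mem _, rfl⟩
      add_mem' := by
        rintro c d ⟨f, hf, rfl⟩ ⟨f', hf', rfl⟩
        refine ⟨t ^ (f 0).val * f' * (t ^ (f 0).val)⁻¹ * f,
          N'.mul_mem (hN'n _ (pow_mem ht _) f' hf') hf, ?_⟩
        have e : (t ^ (f 0).val)⁻¹ (f 0) = 0 := by
          rw [Perm.inv_eq_iff_eq, shift_pow_apply, ZMod.natCast_zmod_val, zero_add]
        rw [Perm.mul_apply, Perm.mul_apply, Perm.mul_apply, e, shift_pow_apply,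
          ZMod.natCast_zmod_val, add_comm]
      neg_mem' := by
        rintro c ⟨f, hf, rfl⟩
        refine ⟨t ^ (-(f 0)).val * f⁻¹ * (t ^ (-(f 0)).val)⁻¹, hN'n _ (pow_mem ht _) _ (inv_mem hf), ?_⟩
        have e : (t ^ (-(f 0)).val)⁻¹ 0 = f 0 := by
          rw [Perm.inv_eq_iff_eq, shift_pow_apply, ZMod.natCast_zmod_val, add_neg_cancel]
        rw [Perm.mul_apply, Perm.mul_apply, e, perm_inv_apply_self, shift_pow_apply,
          ZMod.natCast_zmod_val, zero_add] }
  have hS : ∀ h ∈ G, ∀ x y, y - x ∈ S → h y - h x ∈ S := by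
    intro h hh x y hxy
    obtain ⟨f, hf, hfe⟩ := hxy
    have h1 : ∃ f ∈ N', f x = y := by
      refine ⟨t ^ x.val * f * (t ^ x.val)⁻¹, hN'n _ (pow_mem ht _) f hf, ?_⟩
      have e : (t ^ x.val)⁻¹ x = 0 := by
        rw [Perm.inv_eq_iff_eq, shift_pow_apply, ZMod.natCast_zmod_val, zero_add]
      rw [Perm.mul_apply, Perm.mul_apply, e, hfe, shift_pow_apply, ZMod.natCast_zmod_val,
        sub_add_cancel]
    obtain ⟨f1, hf1, hf1e⟩ := h1
    refine ⟨(t ^ (h x).val)⁻¹ * (h * f1 * h⁻¹) * t ^ (h x).val, ?_, ?_⟩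
    · have := hN'n _ (inv_mem (pow_mem ht (h x).val)) _ (hN'n h hh f1 hf1)
      rwa [inv_inv] at this
    · rw [Perm.mul_apply, Perm.mul_apply, shift_pow_apply, zero_add, ZMod.natCast_zmod_val,
        Perm.mul_apply, Perm.mul_apply, perm_inv_apply_self, hf1e, Perm.inv_eq_iff_eq,
        shift_pow_apply, ZMod.natCast_zmod_val, sub_add_cancel]
  have hex : ∃ j, ((p ^ j : ℕ) : ZMod (p ^ a)) ∈ S := ⟨a, by rw [ZMod.natCast_self]; exact zero_mem S⟩
  classical
  set j := Nat.find hex with hjdef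
  have hja : j ≤ a := Nat.find_le (by rw [ZMod.natCast_self]; exact zero_mem S)
  have hmemS : ∀ c : ZMod (p ^ a), c ∈ S ↔ p ^ j ∣ c.val := by
    intro c
    constructor
    · intro hc
      by_cases hc0 : c = 0
      · simp [hc0]
      have hv : c.val ≠ 0 := fun h => hc0 ((ZMod.val_eq_zero c).1 h)
      obtain ⟨i, m, hm, he⟩ := Nat.exists_eq_pow_mul_and_not_dvd hv p hp.out.ne_one
      have hmem : ((p ^ i : ℕ) : ZMod (p ^ a)) ∈ S := by
        have hu : IsUnit (m : ZMod (p ^ a)) :=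
          (ZMod.isUnit_iff_coprime m _).2 ((hp.out.coprime_iff_not_dvd.2 hm).symm.pow_right _)
        obtain ⟨r, hr⟩ := ZMod.natCast_zmod_surjective (hu.unit⁻¹ : (ZMod (p ^ a))ˣ).val
        have := nsmul_mem hc r
        rw [nsmul_eq_mul, hr, ← ZMod.natCast_zmod_val c, he, Nat.cast_mul, mul_left_comm,
          hu.val_inv_mul, mul_one] at this
        exact this
      have hji : j ≤ i := Nat.find_le hmem
      rw [he]
      exact (pow_dvd_pow p hji).mul_right m
    · rintro ⟨r, hr⟩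
      rw [← ZMod.natCast_zmod_val c, hr, mul_comm, Nat.cast_mul, ← nsmul_eq_mul]
      exact nsmul_mem (Nat.find_spec hex) r
  have hj : j ≠ a := by
    intro hj
    refine hNb ((Subgroup.eq_bot_iff_forall N).2 fun f hf => Subtype.ext (Equiv.ext fun w => ?_))
    have hmem : (f : Perm (ZMod (p ^ a))) w - w ∈ S := by
      refine ⟨(t ^ w.val)⁻¹ * f * t ^ w.val, ?_, ?_⟩
      · have := hN'n _ (inv_mem (pow_mem ht w.val)) _ ⟨f, hf, rfl⟩
        rwa [inv_inv] at this
      · rw [Perm.mul_apply, Perm.mul_apply, shift_pow_apply, zero_add, ZMod.natCast_zmod_val,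
          Perm.inv_eq_iff_eq, shift_pow_apply, ZMod.natCast_zmod_val, sub_add_cancel]
    rw [hmemS, hj] at hmem
    have := Nat.eq_zero_of_dvd_of_lt hmem (ZMod.val_lt _)
    rwa [ZMod.val_eq_zero, sub_eq_zero] at this
  have hj0 : j ≠ 0 := by
    intro hj
    have htr : ∀ x, ∃ f ∈ N', f 0 = x := fun x => (hmemS x).2 (by rw [hj, pow_zero]; exact one_dvd _)
    have hreg : ∀ f ∈ N', ∀ f' ∈ N', f 0 = f' 0 → f = f' := by
      intro f hf f' hf' h
      ext x
      obtain ⟨k, hk, rfl⟩ := htr x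
      rw [← Perm.mul_apply, ← Perm.mul_apply, hN'c f hf k hk, hN'c f' hf' k hk, Perm.mul_apply,
        Perm.mul_apply, h]
    have hcard : Nat.card N' = p ^ a := by
      refine (Nat.card_eq_of_bijective (fun f : N' => (f : Perm (ZMod (p ^ a))) 0)
        ⟨fun f g h => Subtype.ext (hreg f f.2 g g.2 h), fun x => ?_⟩).trans (Nat.card_zmod (p ^ a))
      obtain ⟨f, hf, h⟩ := htr x
      exact ⟨⟨f, hf⟩, h⟩
    have hqp : q = p := by
      have : p ∣ q ^ k := by
        rw [← hNk, ← Subgroup.card_map_of_injective (K := N) G.subtype_injective, hcard]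
        exact dvd_pow_self p ha.ne'
      exact ((Nat.prime_dvd_prime_iff_eq hp.out hq).1 (hp.out.dvd_of_dvd_pow this)).symm
    refine not_elementary_normalized hp2 a h1 N' (fun f hf => hN'n t ht f hf) hN'c ?_ htr
    rintro _ ⟨f, hf, rfl⟩
    rw [hqp] at hNe
    rw [← map_pow, hNe f hf, map_one]
  haveI : NeZero (p ^ j) := ⟨(pow_pos hp.out.pos _).ne'⟩
  set e := ZMod.castHom (pow_dvd_pow p hja) (ZMod (p ^ j)) with hedef
  have he : ∀ x y, e x = e y ↔ y - x ∈ S := fun x y => by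
    rw [hmemS, eq_comm, ← sub_eq_zero, ← map_sub, ← ZMod.natCast_eq_zero_iff, ← map_natCast e,
      ZMod.natCast_zmod_val]
  obtain ⟨π, hπ⟩ := exists_descend e (ZMod.castHom_surjective _) G
    fun h hh x y hxy => (he _ _).2 (hS h hh x y ((he _ _).1 hxy))
  have hsh : shift (p ^ j) ∈ π.range := ⟨⟨t, ht⟩, Equiv.ext fun w => by
    obtain ⟨w, rfl⟩ := ZMod.castHom_surjective (pow_dvd_pow p hja) w
    rw [hπ, shift_apply]
    change e (w + 1) = e w + 1
    rw [map_add, map_one]⟩
  have hsol : Group.IsSolvable π.range :=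
    Group.isSolvable_of_surjective π.rangeRestrict_surjective
  have hcomp : ∀ w, ZMod.castHom (dvd_pow_self p ha.ne') (ZMod p) w =
      ZMod.castHom (dvd_pow_self p hj0) (ZMod p) (e w) := fun w => by
    rw [← RingHom.comp_apply, hedef, ZMod.castHom_comp]
  rw [hcomp, hcomp, ← hπ ⟨g, hg⟩, ← hπ ⟨g, hg⟩]
  exact ih j (lt_of_le_of_ne hja hj) (Nat.pos_of_ne_zero hj0) π.range hsol hsh _ ⟨_, rfl⟩ _ _
    (by rw [← hcomp, ← hcomp, hxy])

/-- In a solvable group containing the shift, a `p`-element moves all residues mod `p` by the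
same constant. -/
theorem steps_const {p : ℕ} [hp : Fact p.Prime] (hp2 : 2 < p) {a : ℕ} (ha : 0 < a)
    (G : Subgroup (Perm (ZMod (p ^ a)))) (hG : Group.IsSolvable G) (ht : shift (p ^ a) ∈ G)
    {g : Perm (ZMod (p ^ a))} (hg : g ∈ G) (hgp : ∃ k : ℕ, g ^ p ^ k = 1) (x y : ZMod (p ^ a)) :
    ZMod.castHom (dvd_pow_self p ha.ne') (ZMod p) (g x - x) =
      ZMod.castHom (dvd_pow_self p ha.ne') (ZMod p) (g y - y) := by
  classical
  haveI : NeZero (p ^ a) := ⟨(pow_pos hp.out.pos _).ne'⟩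
  haveI : NeZero p := ⟨hp.out.ne_zero⟩
  set e := ZMod.castHom (dvd_pow_self p ha.ne') (ZMod p) with hedef
  obtain ⟨π, hπ⟩ := exists_descend e (ZMod.castHom_surjective _) G
    fun h hh x y hxy => preserves_residues hp2 a ha G hG ht h hh x y hxy
  have hsol : Group.IsSolvable π.range :=
    Group.isSolvable_of_surjective π.rangeRestrict_surjective
  have hT : π ⟨shift (p ^ a), ht⟩ = shift p := Equiv.ext fun w => by
    obtain ⟨w, rfl⟩ := ZMod.castHom_surjective (dvd_pow_self p ha.ne') w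
    rw [hπ, shift_apply, shift_apply, map_add, map_one]
  let T : π.range := ⟨shift p, _, hT⟩
  haveI : IsPretransitive π.range (ZMod p) := ⟨fun u v => ⟨T ^ (v - u).val, by
    change (shift p ^ (v - u).val) u = v
    rw [shift_pow_apply, ZMod.natCast_zmod_val, add_sub_cancel]⟩⟩
  have hX : Nat.card (ZMod p) = p := Nat.card_zmod p
  have key : ∀ r : π.range, (∃ k : ℕ, r ^ p ^ k = 1) → ∀ P : Sylow p π.range, r ∈ (P : Subgroup π.range) := by
    rintro r ⟨k, hk⟩ P
    have hR : IsPGroup p (Subgroup.zpowers r) := by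
      rintro ⟨s, i, rfl⟩
      refine ⟨k, Subtype.ext ?_⟩
      change (r ^ i) ^ p ^ k = 1
      rw [← zpow_natCast, ← zpow_mul, mul_comm, zpow_mul, zpow_natCast, hk, one_zpow]
    obtain ⟨Q, hQ⟩ := hR.exists_le_sylow
    haveI := sylow_normal_of_isSolvable (X := ZMod p) hX hsol P
    haveI := Sylow.unique_of_normal P ‹_›
    rw [Subsingleton.elim P Q]
    exact hQ (Subgroup.mem_zpowers r)
  obtain ⟨P⟩ : Nonempty (Sylow p π.range) := inferInstance
  have hTP := key T ⟨1, Subtype.ext (by rw [pow_one]; exact shift_pow_card)⟩ P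
  obtain ⟨k, hk⟩ := hgp
  let r : π.range := ⟨π ⟨g, hg⟩, _, rfl⟩
  have hrP := key r ⟨k, Subtype.ext (by
    rw [SubgroupClass.coe_pow]
    change π ⟨g, hg⟩ ^ p ^ k = 1
    rw [← map_pow, show (⟨g, hg⟩ : G) ^ p ^ k = 1 from Subtype.ext hk, map_one])⟩ P
  have hPab := isMulCommutative_sylow_prime_degree (X := ZMod p) hX P
  have hcomm : shift p * π ⟨g, hg⟩ = π ⟨g, hg⟩ * shift p :=
    congrArg (fun s : (P : Subgroup π.range) => ((s : π.range) : Perm (ZMod p)))
      (hPab.is_comm.comm ⟨T, hTP⟩ ⟨r, hrP⟩)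
  have hall := apply_eq_of_commute_shift hcomm
  have hstep : ∀ w, e (g w - w) = π ⟨g, hg⟩ 0 := fun w => by
    rw [map_sub, ← hπ ⟨g, hg⟩, hall, add_sub_cancel_left]
  rw [hstep, hstep]

end CfsgLib.PermGroups.CycleSolvable54
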