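import Mathlib
import Cfsg.Agent.PermGroups.CycleSolvable54

/-!
Two elements of `p`-power order in a symmetric group: an even conjugate of the second makes the
product a non-`p`-element and the pair generate an insoluble group (long cycle case).
-/

set_option autoImplicit false
set_option linter.style.haveILetI false

open Equiv

namespace CfsgLib.PermGroups.FreePair54

open CfsgLib.PermGroups.CycleSolvable54

/-- The pair `u, h` has product not of `p`-power order and generates an insoluble group. -/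
def Bad {X : Type*} (p : ℕ) (u h : Perm X) : Prop :=
  (¬ ∃ k : ℕ, (u * h) ^ p ^ k = 1) ∧ ¬ Group.IsSolvable (Subgroup.closure ({u, h} : Set (Perm X)))

theorem lift_bad {X Y : Type*} {p : ℕ} (e : X ↪ Y) {U V : Perm Y} {u h : Perm X}
    (hU : ∀ x, U (e x) = e (u x)) (hV : ∀ x, V (e x) = e (h x)) (hb : Bad p u h) : Bad p U V := by
  let K : Subgroup (Perm Y × Perm X) :=
    { carrier := {q | ∀ x, q.1 (e x) = e (q.2 x)}
      one_mem' := fun x => rfl
      mul_mem' := fun {a b} ha hb x => by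
        simp only [Prod.fst_mul, Prod.snd_mul, Perm.mul_apply]; rw [hb x, ha]
      inv_mem' := fun {a} ha x => by
        simp only [Prod.fst_inv, Prod.snd_inv]
        rw [Perm.inv_eq_iff_eq, ha, perm_apply_inv_self] }
  have huK : ((U, u) : Perm Y × Perm X) ∈ K := hU
  have hhK : ((V, h) : Perm Y × Perm X) ∈ K := hV
  have hinj : ∀ q ∈ K, q.1 = 1 → q.2 = 1 := fun q hq h1 => Equiv.ext fun x =>
    e.injective (by rw [← hq x, h1]; rfl)
  constructor
  · rintro ⟨k, hk⟩
    refine hb.1 ⟨k, ?_⟩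
    exact hinj _ (K.pow_mem (K.mul_mem huK hhK) (p ^ k)) hk
  · intro hs
    apply hb.2
    let H : Subgroup (Perm Y × Perm X) := Subgroup.closure {(U, u), (V, h)}
    have hHK : H ≤ K := (Subgroup.closure_le K).2 (by
      intro q hq
      rcases hq with rfl | rfl
      · exact huK
      · exact hhK)
    have h1 : H.map (MonoidHom.fst _ _) = Subgroup.closure {U, V} := by
      rw [MonoidHom.map_closure, Set.image_pair]; rfl
    have h2 : H.map (MonoidHom.snd _ _) = Subgroup.closure {u, h} := by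
      rw [MonoidHom.map_closure, Set.image_pair]; rfl
    let f : H →* Subgroup.closure ({U, V} : Set (Perm Y)) :=
      ((MonoidHom.fst _ _).comp H.subtype).codRestrict _ fun q => h1 ▸ ⟨q, q.2, rfl⟩
    haveI : Group.IsSolvable H := by
      haveI := hs
      refine Group.isSolvable_of_isSolvable_injective (f := f) ?_
      rw [← MonoidHom.ker_eq_bot_iff, Subgroup.eq_bot_iff_forall]
      intro q hq
      have hq1 : (q : Perm Y × Perm X).1 = 1 := congrArg Subtype.val hq
      exact Subtype.ext (Prod.ext hq1 (hinj _ (hHK q.2) hq1))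
    rw [← h2]
    exact Group.isSolvable_of_surjective ((MonoidHom.snd _ _).subgroupMap_surjective H)

/-- Extend a partial conjugate to an even conjugate of the whole permutation. -/
theorem transplant {n p : ℕ} {X : Type*} [Fintype X] [DecidableEq X] (e : X ↪ Fin n)
    (U W : Perm (Fin n)) (u0 w0 : Perm X) (hU : ∀ x, U (e x) = e (u0 x))
    (hle : w0.cycleType ≤ W.cycleType)
    (hsum : (W.cycleType - w0.cycleType).sum + Fintype.card X ≤ n)
    (T T' : Perm X) (hT : Perm.sign T = -1) (hT' : Perm.sign T' = 1)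
    (hb : Bad p u0 (T * w0 * T⁻¹)) (hb' : Bad p u0 (T' * w0 * T'⁻¹)) :
    ∃ g : Perm (Fin n), Perm.sign g = 1 ∧ Bad p U (g * W * g⁻¹) := by
  classical
  let f : X ≃ {y // y ∈ Set.range e} := Equiv.ofInjective e e.injective
  obtain ⟨r0, hr0⟩ := (Perm.exists_with_cycleType_iff {y : Fin n // y ∉ Set.range e}
      (m := W.cycleType - w0.cycleType)).2 ⟨by
    have h1 := Fintype.card_subtype_compl (fun y : Fin n => y ∈ Set.range e)
    have h2 : Fintype.card {y : Fin n // y ∈ Set.range e} = Fintype.card X :=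
      (Fintype.card_congr f).symm
    rw [h1, h2, Fintype.card_fin]; omega,
    fun a ha => Perm.two_le_of_mem_cycleType (Multiset.mem_of_le (Multiset.sub_le_self _ _) ha)⟩
  let r : Perm (Fin n) := Perm.ofSubtype r0
  let ι : Perm X →* Perm (Fin n) := Perm.extendDomainHom f
  have hr : ∀ x, r (e x) = e x := fun x =>
    Perm.ofSubtype_apply_of_not_mem r0 (not_not.2 ⟨x, rfl⟩)
  have hι : ∀ (s : Perm X) x, ι s (e x) = e (s x) := fun s x =>
    Perm.extendDomain_apply_image s f x
  have hd : Perm.Disjoint (ι w0) r := by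
    intro y
    by_cases hy : y ∈ Set.range e
    · exact Or.inr (Perm.ofSubtype_apply_of_not_mem r0 (not_not.2 hy))
    · exact Or.inl (Perm.extendDomain_apply_not_subtype w0 f hy)
  have hct : (ι w0 * r).cycleType = W.cycleType := by
    have e1 : (ι w0).cycleType = w0.cycleType := Perm.cycleType_extendDomain f
    have e2 : r.cycleType = W.cycleType - w0.cycleType := by
      rw [show r = Perm.ofSubtype r0 from rfl, Perm.cycleType_ofSubtype, hr0]
    rw [hd.cycleType_mul, e1, e2, add_tsub_cancel_of_le hle]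
  obtain ⟨σ, hσ⟩ := isConj_iff.1 (Perm.isConj_iff_cycleType_eq.2 hct.symm)
  have hV : ∀ (s : Perm X) x, (ι s * σ * W * (ι s * σ)⁻¹) (e x) = e ((s * w0 * s⁻¹) x) := by
    intro s x
    have : ι s * σ * W * (ι s * σ)⁻¹ = ι s * (σ * W * σ⁻¹) * ι s⁻¹ := by
      rw [map_inv]; group
    rw [this, hσ, Perm.mul_apply, Perm.mul_apply, Perm.mul_apply, hι, hr, hι, hι]
    rfl
  have hsgn : ∀ s : Perm X, Perm.sign (ι s) = Perm.sign s := fun s => Perm.sign_extendDomain s f
  rcases Int.units_eq_one_or (Perm.sign σ) with h | h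
  · exact ⟨ι T' * σ, by rw [map_mul, hsgn, hT', h, one_mul], lift_bad e hU (hV T') hb'⟩
  · exact ⟨ι T * σ, by rw [map_mul, hsgn, hT, h, neg_mul_neg, one_mul], lift_bad e hU (hV T) hb⟩

/-- Cycle lengths of an element of `p`-power order are powers of `p`. -/
theorem eq_pow_of_mem_cycleType {α : Type*} [Fintype α] [DecidableEq α] {p : ℕ} (hp : p.Prime)
    {g : Perm α} (hg : ∃ k : ℕ, g ^ p ^ k = 1) {c : ℕ} (hc : c ∈ g.cycleType) :
    ∃ i, 0 < i ∧ c = p ^ i := by
  obtain ⟨k, hk⟩ := hg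
  obtain ⟨i, -, hi⟩ := (Nat.dvd_prime_pow hp).1
    ((Perm.dvd_of_mem_cycleType hc).trans (orderOf_dvd_of_pow_eq_one hk))
  refine ⟨i, Nat.pos_of_ne_zero fun h => ?_, hi⟩
  have := Perm.two_le_of_mem_cycleType hc
  rw [hi, h, pow_zero] at this
  omega

/-- A permutation with one or two fixed points on `p ^ a` points is not of `p`-power order. -/
theorem not_pow_eq_one_of_few_fixed {α : Type*} [Fintype α] [DecidableEq α] {p a : ℕ}
    (hp : p.Prime) (hp2 : 2 < p) (ha : 0 < a) (hcard : Fintype.card α = p ^ a) {g : Perm α}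
    (x1 x2 : α) (h1 : g x1 = x1) (hfew : ∀ x, g x = x → x = x1 ∨ x = x2) :
    ¬ ∃ k : ℕ, g ^ p ^ k = 1 := by
  intro hk
  have hd : p ∣ g.support.card := by
    rw [← Perm.sum_cycleType]
    refine Multiset.dvd_sum fun c hc => ?_
    obtain ⟨i, hi, rfl⟩ := eq_pow_of_mem_cycleType hp hk hc
    exact dvd_pow_self p hi.ne'
  have hsub : g.supportᶜ ⊆ ({x1, x2} : Finset α) := fun x hx => by
    rw [Finset.mem_compl, Perm.mem_support, not_not] at hx
    simpa using hfew x hx
  have hle : g.supportᶜ.card ≤ 2 :=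
    (Finset.card_le_card hsub).trans ((Finset.card_insert_le _ _).trans (by simp))
  have hpos : 0 < g.supportᶜ.card := Finset.card_pos.2 ⟨x1, by simp [h1]⟩
  have hc := Finset.card_compl_add_card g.support
  rw [hcard] at hc
  have hdd : p ∣ g.supportᶜ.card := by
    have : p ∣ g.supportᶜ.card + g.support.card := hc ▸ dvd_pow_self p ha.ne'
    exact (Nat.dvd_add_left hd).1 this
  have := Nat.le_of_dvd hpos hdd
  omega

/-- The rotation. -/
def rot (L : ℕ) [NeZero L] : Perm (Fin L) := Equiv.addRight (1 : Fin L)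

theorem rot_val {L : ℕ} [NeZero L] (x : Fin L) : (rot L x).val = (x.val + 1) % L := by
  simp [rot, Fin.val_add, Fin.val_one', Nat.add_mod]

theorem rot_mul_apply_eq {L : ℕ} [NeZero L] (h : Perm (Fin L)) (x : Fin L) :
    (rot L * h) x = x ↔ (h x).val + 1 = x.val ∨ ((h x).val + 1 = L ∧ x.val = 0) := by
  rw [Perm.mul_apply, Fin.ext_iff, rot_val]
  have := (h x).isLt
  have := x.isLt
  rcases (show (h x).val + 1 < L ∨ (h x).val + 1 = L by omega) with h1 | h1
  · rw [Nat.mod_eq_of_lt h1]; omega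
  · rw [h1, Nat.mod_self]; omega

/-- The criterion: few fixed points of the product, and two different steps mod `p`. -/
theorem bad_of_steps {p a : ℕ} [hp : Fact p.Prime] [NeZero (p ^ a)] (hp2 : 2 < p) (ha : 0 < a)
    (h : Perm (Fin (p ^ a))) (hh : ∃ k : ℕ, h ^ p ^ k = 1) (x1 x2 y : Fin (p ^ a))
    (h1 : (h x1).val + 1 = x1.val)
    (hfew : ∀ x, ((h x).val + 1 = x.val ∨ ((h x).val + 1 = p ^ a ∧ x.val = 0)) → x = x1 ∨ x = x2)
    (hy : (((h y).val + 1 : ℕ) : ZMod p) ≠ ((y.val : ℕ) : ZMod p)) :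
    Bad p (rot (p ^ a)) h := by
  let e0 : Fin (p ^ a) ≃ ZMod (p ^ a) :=
    { toFun := fun x => (x.val : ZMod (p ^ a))
      invFun := fun z => ⟨z.val, z.val_lt⟩
      left_inv := fun x => Fin.ext (ZMod.val_natCast_of_lt x.isLt)
      right_inv := fun z => ZMod.natCast_zmod_val z }
  refine ⟨not_pow_eq_one_of_few_fixed hp.out hp2 ha (Fintype.card_fin _) x1 x2
    ((rot_mul_apply_eq h x1).2 (Or.inl h1)) fun x hx => hfew x ((rot_mul_apply_eq h x).1 hx), ?_⟩
  intro hs
  let φ : Perm (Fin (p ^ a)) ≃* Perm (ZMod (p ^ a)) := e0.permCongrHom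
  let G : Subgroup (Perm (ZMod (p ^ a))) :=
    (Subgroup.closure ({rot (p ^ a), h} : Set (Perm (Fin (p ^ a))))).map φ.toMonoidHom
  have hG : Group.IsSolvable G := by
    haveI := hs
    exact Group.isSolvable_of_surjective (φ.toMonoidHom.subgroupMap_surjective _)
  have hrot : φ (rot (p ^ a)) = shift (p ^ a) := by
    ext z
    change ((rot (p ^ a) (e0.symm z)).val : ZMod (p ^ a)) = z + 1
    rw [rot_val, ZMod.natCast_mod, Nat.cast_succ]
    exact congrArg (· + 1) (e0.apply_symm_apply z)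
  have hgh : φ h ∈ G := ⟨h, Subgroup.subset_closure (by simp), rfl⟩
  obtain ⟨k, hk⟩ := hh
  have hst := steps_const hp2 ha G hG
    (hrot ▸ ⟨rot (p ^ a), Subgroup.subset_closure (by simp), rfl⟩) hgh
    ⟨k, by rw [← map_pow, hk, map_one]⟩ (x1.val : ZMod (p ^ a)) (y.val : ZMod (p ^ a))
  have hev : ∀ x : Fin (p ^ a), φ h (x.val : ZMod (p ^ a)) = ((h x).val : ZMod (p ^ a)) := fun x => by
    change e0 (h (e0.symm (e0 x))) = _
    rw [e0.symm_apply_apply]; rfl
  rw [hev, hev, map_sub, map_sub, map_natCast, map_natCast, map_natCast, map_natCast] at hst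
  apply hy
  have h1' : (((h x1).val + 1 : ℕ) : ZMod p) = ((x1.val : ℕ) : ZMod p) := congrArg _ h1
  push_cast at h1' ⊢
  linear_combination h1' - hst

/-- Greedy choice of a submultiset with prescribed sum, for a chain under divisibility. -/
theorem exists_prefix_sum : ∀ (l : List ℕ) (T : ℕ), (∀ x ∈ l, 0 < x) →
    l.Pairwise (fun a b => b ∣ a) → (∀ x ∈ l.head?, x ∣ T) → T ≤ l.sum →
    ∃ k, (l.take k).sum = T
  | [], T, _, _, _, hT => ⟨0, by simp at hT; simp [hT]⟩
  | x :: xs, T, hpos, hc, hd, hT => by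
    rcases Nat.eq_zero_or_pos T with h | h
    · exact ⟨0, by simp [h]⟩
    have hxT : x ∣ T := hd x (by simp)
    have hle : x ≤ T := Nat.le_of_dvd h hxT
    rw [List.pairwise_cons] at hc
    obtain ⟨k, hk⟩ := exists_prefix_sum xs (T - x) (fun z hz => hpos z (List.mem_cons_of_mem _ hz))
      hc.2 (fun z hz => by
        have hz' : z ∈ xs := List.mem_of_mem_head? hz
        exact (hc.1 z hz').trans (Nat.dvd_sub hxT (dvd_refl x)))
      (by rw [List.sum_cons] at hT; omega)
    exact ⟨k + 1, by simp [List.take_succ_cons, hk]; omega⟩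

/-- Choose the part of the cycle type that goes on the long cycle. -/
theorem exists_part {p a : ℕ} (hp : p.Prime) {n : ℕ} (hn : p ^ a ≤ n) (m : Multiset ℕ)
    (hne : m ≠ 0) (hpow : ∀ c ∈ m, ∃ i, c = p ^ i) (hle : ∀ c ∈ m, c ≤ p ^ a) (hm : m.sum ≤ n) :
    ∃ (d : ℕ) (ds : List ℕ), (∀ c ∈ ds, c ∈ m ∧ c ≤ d) ∧ d ∈ m ∧ ((d :: ds : List ℕ) : Multiset ℕ) ≤ m ∧
      d + ds.sum ≤ p ^ a ∧ (m - ((d :: ds : List ℕ) : Multiset ℕ)).sum + p ^ a ≤ n := by
  set l := m.sort (· ≥ ·) with hldef
  have hl : (l : Multiset ℕ) = m := Multiset.sort_eq m _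
  have hmem : ∀ {c}, c ∈ l → c ∈ m := fun hc => hl ▸ hc
  have hs : l.Pairwise (· ≥ ·) := Multiset.pairwise_sort m _
  cases hl' : l with
  | nil => rw [hl'] at hl; exact absurd hl.symm hne
  | cons d xs =>
    rw [hl'] at hl hs
    rw [List.pairwise_cons] at hs
    have hmem' : ∀ {c}, c ∈ d :: xs → c ∈ m := fun hc => hl ▸ hc
    have hdm : d ∈ m := hmem' List.mem_cons_self
    have hlsum : m.sum = d + xs.sum := by rw [← hl, Multiset.sum_coe, List.sum_cons]
    by_cases hsm : m.sum ≤ p ^ a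
    · refine ⟨d, xs, fun c hc => ⟨hmem' (List.mem_cons_of_mem _ hc), hs.1 c hc⟩, hdm, hl.le,
        by omega, ?_⟩
      rw [hl, tsub_self, Multiset.sum_zero]; omega
    obtain ⟨j, hj⟩ := hpow d hdm
    have hdp : d ≤ p ^ a := hle d hdm
    have hja : j ≤ a := (Nat.pow_le_pow_iff_right hp.one_lt).1 (hj ▸ hdp)
    have hdvd : ∀ x ∈ m, ∀ y ∈ m, y ≤ x → y ∣ x := by
      intro x hx y hy hyx
      obtain ⟨i, rfl⟩ := hpow x hx
      obtain ⟨i', rfl⟩ := hpow y hy
      exact pow_dvd_pow p ((Nat.pow_le_pow_iff_right hp.one_lt).1 hyx)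
    obtain ⟨k, hk⟩ := exists_prefix_sum xs (p ^ a - d)
      (fun x hx => by
        obtain ⟨i, rfl⟩ := hpow x (hmem' (List.mem_cons_of_mem _ hx))
        exact pow_pos hp.pos i)
      (hs.2.imp_of_mem fun {x y} hx hy hxy =>
        hdvd x (hmem' (List.mem_cons_of_mem _ hx)) y (hmem' (List.mem_cons_of_mem _ hy)) hxy)
      (fun x hx => by
        have hx' : x ∈ xs := List.mem_of_mem_head? hx
        have h1 : x ∣ d := hdvd d hdm x (hmem' (List.mem_cons_of_mem _ hx')) (hs.1 x hx')
        exact h1.trans (Nat.dvd_sub (hj ▸ pow_dvd_pow p hja) (dvd_refl d)))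
      (by omega)
    have hsub : ((d :: xs.take k : List ℕ) : Multiset ℕ) ≤ m := by
      rw [← hl]
      exact ((List.take_sublist k xs).cons_cons d).subperm
    refine ⟨d, xs.take k, fun c hc => ⟨hmem' (List.mem_cons_of_mem _ (List.mem_of_mem_take hc)),
      hs.1 c (List.mem_of_mem_take hc)⟩, hdm, hsub, by omega, ?_⟩
    have h1 := congrArg Multiset.sum (tsub_add_cancel_of_le hsub)
    rw [Multiset.sum_add, Multiset.sum_coe, List.sum_cons, hk] at h1
    omega

/-- Disjoint cycles on consecutive intervals from `s` on. -/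
theorem exists_intervals {L : ℕ} [NeZero L] : ∀ (ds : List ℕ), (∀ i ∈ ds, 3 ≤ i) → ∀ s : ℕ,
    s + ds.sum ≤ L → ∃ v : Perm (Fin L), v.cycleType = (ds : Multiset ℕ) ∧
      (∀ x : Fin L, x.val < s → v x = x) ∧
      ∀ x : Fin L, s ≤ x.val →
        v x = x ∨ (v x).val = x.val + 1 ∨ ((v x).val + 2 ≤ x.val ∧ s ≤ (v x).val)
  | [], _, s, _ => ⟨1, by simp, fun x _ => rfl, fun x _ => Or.inl rfl⟩
  | d :: ds, h3, s, hs => by
    rw [List.sum_cons] at hs
    have hd : 3 ≤ d := h3 d List.mem_cons_self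
    obtain ⟨v, hv, hv1, hv2⟩ := exists_intervals (L := L) ds (fun i hi => h3 i (List.mem_cons_of_mem _ hi))
      (s + d) (by omega)
    let i : Fin L := ⟨s, by omega⟩
    let j : Fin L := ⟨s + d - 1, by omega⟩
    have hij : i < j := by simp only [i, j, Fin.lt_def]; omega
    have hc1 : ∀ x : Fin L, (x.val < s ∨ s + d ≤ x.val) → Fin.cycleIcc i j x = x := by
      rintro x (h | h)
      · exact Fin.cycleIcc_of_lt (by simp only [i, Fin.lt_def]; omega)
      · exact Fin.cycleIcc_of_gt (by simp only [j, Fin.lt_def]; omega)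
    have hd' : Perm.Disjoint (Fin.cycleIcc i j) v := fun x => by
      by_cases h : x.val < s + d
      · exact Or.inr (hv1 x h)
      · exact Or.inl (hc1 x (by omega))
    refine ⟨Fin.cycleIcc i j * v, ?_, fun x hx => ?_, fun x hx => ?_⟩
    · rw [hd'.cycleType_mul, hv, Fin.cycleType_cycleIcc_of_lt hij,
        ← Multiset.cons_coe, show j.val - i.val + 1 = d by simp only [i, j]; omega]
      rfl
    · rw [Perm.mul_apply, hv1 x (by omega), hc1 x (Or.inl hx)]
    · rw [Perm.mul_apply]
      by_cases h : x.val < s + d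
      · rw [hv1 x h]
        by_cases h' : x.val + 1 = s + d
        · rw [show x = j from Fin.ext (show x.val = s + d - 1 by omega), Fin.cycleIcc_of_last hij.le]
          exact Or.inr (Or.inr ⟨by simp only [i, j]; omega, le_refl _⟩)
        · rw [Fin.cycleIcc_of_ge_of_lt (by simp only [i, Fin.le_def]; omega)
            (by simp only [j, Fin.lt_def]; omega), Fin.val_add_one_of_lt' (by omega)]
          exact Or.inr (Or.inl rfl)
      · rcases hv2 x (by omega) with e | e | ⟨e1, e2⟩
        · rw [e, hc1 x (by omega)]; exact Or.inl rfl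
        · rw [hc1 (v x) (Or.inr (by omega))]; exact Or.inr (Or.inl e)
        · rw [hc1 (v x) (by omega)]; exact Or.inr (Or.inr ⟨e1, by omega⟩)

/-- Values of a permutation made of a `d`-cycle on `0, …, d - 1` and intervals beyond. -/
def Standard {L : ℕ} (d : ℕ) (w : Perm (Fin L)) : Prop :=
  ∀ x : Fin L, (x.val + 1 < d → (w x).val = x.val + 1) ∧ (x.val + 1 = d → (w x).val = 0) ∧
    (d ≤ x.val → d ≤ (w x).val ∧
      ((w x).val = x.val ∨ (w x).val = x.val + 1 ∨ (w x).val + 2 ≤ x.val))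

theorem exists_standard {L : ℕ} [NeZero L] (d : ℕ) (hd : 3 ≤ d) (hdL : d ≤ L) (v : Perm (Fin L))
    (hv1 : ∀ x : Fin L, x.val < d → v x = x)
    (hv2 : ∀ x : Fin L, d ≤ x.val →
      v x = x ∨ (v x).val = x.val + 1 ∨ ((v x).val + 2 ≤ x.val ∧ d ≤ (v x).val)) :
    Standard d (Fin.cycleIcc (⟨0, by omega⟩ : Fin L) ⟨d - 1, by omega⟩ * v) ∧
      (Fin.cycleIcc (⟨0, by omega⟩ : Fin L) ⟨d - 1, by omega⟩ * v).cycleType =
        d ::ₘ v.cycleType := by
  set i : Fin L := ⟨0, by omega⟩ with hi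
  set j : Fin L := ⟨d - 1, by omega⟩ with hj
  have hij : i < j := by simp only [i, j, Fin.lt_def]; omega
  constructor
  · intro x
    refine ⟨fun h => ?_, fun h => ?_, fun h => ?_⟩
    · rw [Perm.mul_apply, hv1 x (by omega), Fin.cycleIcc_of_ge_of_lt (show i ≤ x from Nat.zero_le _)
        (by simp only [j, Fin.lt_def]; omega), Fin.val_add_one_of_lt' (by omega)]
    · rw [Perm.mul_apply, hv1 x (by omega), show x = j from Fin.ext (show x.val = d - 1 by omega),
        Fin.cycleIcc_of_last hij.le]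
    · have hge : d ≤ (v x).val ∧ ((v x).val = x.val ∨ (v x).val = x.val + 1 ∨ (v x).val + 2 ≤ x.val) := by
        rcases hv2 x h with e | e | ⟨e1, e2⟩
        · rw [e]; exact ⟨h, Or.inl rfl⟩
        · exact ⟨by omega, Or.inr (Or.inl e)⟩
        · exact ⟨e2, Or.inr (Or.inr e1)⟩
      rw [Perm.mul_apply, Fin.cycleIcc_of_gt (by simp only [j, Fin.lt_def]; omega)]
      exact hge
  · have hd' : Perm.Disjoint (Fin.cycleIcc i j) v := fun x => by
      by_cases h : x.val < d
      · exact Or.inr (hv1 x h)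
      · exact Or.inl (Fin.cycleIcc_of_gt (by simp only [j, Fin.lt_def]; omega))
    rw [hd'.cycleType_mul, Fin.cycleType_cycleIcc_of_lt hij,
      show j.val - i.val + 1 = d by simp only [i, j]; omega]
    rfl

/-- An embedding of a long cycle as a rotation. -/
theorem exists_cycle_embedding {n : ℕ} (U : Perm (Fin n)) {L : ℕ} [NeZero L]
    (hL : L ∈ U.cycleType) :
    ∃ e : Fin L ↪ Fin n, ∀ x, U (e x) = e (rot L x) := by
  classical
  rw [Perm.cycleType_def, Multiset.mem_map] at hL
  obtain ⟨c, hc, hcL⟩ := hL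
  rw [Finset.mem_val, Perm.mem_cycleFactorsFinset_iff] at hc
  obtain ⟨hcyc, hcU⟩ := hc
  obtain ⟨x0, hx0⟩ := hcyc.nonempty_support
  have hord : orderOf c = L := by rw [hcyc.orderOf]; exact hcL
  have hpow : ∀ k : ℕ, (U ^ k) x0 = (c ^ k) x0 := by
    have hmem : ∀ k : ℕ, (c ^ k) x0 ∈ c.support := fun k =>
      Perm.pow_apply_mem_support.2 hx0
    intro k
    induction k with
    | zero => rfl
    | succ k ih =>
      rw [pow_succ' U, pow_succ' c, Perm.mul_apply, Perm.mul_apply, ih, hcU _ (hmem k)]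
  have hinj : Function.Injective (fun x : Fin L => (c ^ x.val) x0) := by
    intro x y hxy
    have := hcyc.pow_eq_pow_iff.2 ⟨x0, Perm.mem_support.1 hx0, hxy⟩
    rw [pow_inj_mod, hord, Nat.mod_eq_of_lt x.isLt, Nat.mod_eq_of_lt y.isLt] at this
    exact Fin.ext this
  refine ⟨⟨fun x => (c ^ x.val) x0, hinj⟩, fun x => ?_⟩
  change U ((c ^ x.val) x0) = (c ^ (rot L x).val) x0
  have e : c ^ ((x.val + 1) % L) = c ^ (x.val + 1) := by
    rw [← pow_mod_orderOf c (x.val + 1), hord]
  rw [← hpow, ← Perm.mul_apply, ← pow_succ', hpow, rot_val, e]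

theorem val_swap {L : ℕ} (a b x : Fin L) :
    (Equiv.swap a b x).val = if x.val = a.val then b.val else if x.val = b.val then a.val else x.val := by
  rw [Equiv.swap_apply_def]
  split_ifs with h1 h2 h3 h4 <;> simp_all [Fin.ext_iff]

/-- The first target: conjugate by the transposition of `0` and `1`. -/
theorem bad_target_one {p a : ℕ} [hp : Fact p.Prime] [NeZero (p ^ a)] (hp2 : 2 < p) (ha : 0 < a)
    (h5 : 5 ≤ p ^ a) {d : ℕ} (hd : 3 ≤ d) (hdo : Odd d) (w : Perm (Fin (p ^ a)))
    (hw : Standard d w) (hdL : d ≤ p ^ a) (hord : ∃ k : ℕ, w ^ p ^ k = 1)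
    (t0 t1 : Fin (p ^ a)) (ht0 : t0.val = 0) (ht1 : t1.val = 1) :
    Bad p (rot (p ^ a)) (Equiv.swap t0 t1 * w * (Equiv.swap t0 t1)⁻¹) := by
  set h := Equiv.swap t0 t1 * w * (Equiv.swap t0 t1)⁻¹ with hh
  have hh' : ∃ k : ℕ, h ^ p ^ k = 1 := by
    obtain ⟨k, hk⟩ := hord
    exact ⟨k, by rw [hh, conj_pow, hk, mul_one, mul_inv_cancel]⟩
  obtain ⟨q, hq⟩ := hdo
  have hval : ∀ x : Fin (p ^ a),
      (x.val = 0 → (h x).val = 2) ∧ (x.val = 1 → (h x).val = 0) ∧
      (2 ≤ x.val → x.val + 1 < d → (h x).val = x.val + 1) ∧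
      (2 ≤ x.val → x.val + 1 = d → (h x).val = 1) ∧
      (d ≤ x.val → d ≤ (h x).val ∧
        ((h x).val = x.val ∨ (h x).val = x.val + 1 ∨ (h x).val + 2 ≤ x.val)) := by
    intro x
    set y := Equiv.swap t0 t1 x with hy
    have hx : (h x).val = (Equiv.swap t0 t1 (w y)).val := by
      rw [hh, Perm.mul_apply, Perm.mul_apply, Equiv.swap_inv, hy]
    have hyv := val_swap t0 t1 x
    rw [← hy, ht0, ht1] at hyv
    have hv := val_swap t0 t1 (w y)
    rw [ht0, ht1] at hv
    obtain ⟨w1, w2, w3⟩ := hw y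
    rw [hx, hv]
    refine ⟨fun e => ?_, fun e => ?_, fun e e' => ?_, fun e e' => ?_, fun e => ?_⟩ <;>
      split_ifs at hyv ⊢ <;> omega
  refine bad_of_steps hp2 ha h hh' t1 ⟨2, by omega⟩ ⟨if d = 3 then 3 else 2, by split <;> omega⟩
    (by rw [(hval t1).2.1 ht1, ht1]) ?_ ?_
  · intro x hx
    obtain ⟨v0, v1, v2, v3, v4⟩ := hval x
    have := x.isLt
    simp only [Fin.ext_iff, ht1]
    rcases (show x.val = 0 ∨ x.val = 1 ∨ (2 ≤ x.val ∧ x.val + 1 < d) ∨ (2 ≤ x.val ∧ x.val + 1 = d) ∨
      d ≤ x.val by omega) with e | e | ⟨e, e'⟩ | ⟨e, e'⟩ | e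
    · have := v0 e; omega
    · omega
    · have := v2 e e'; omega
    · have := v3 e e'; omega
    · have := v4 e; omega
  · intro he
    rw [ZMod.natCast_eq_natCast_iff] at he
    set y : Fin (p ^ a) := ⟨if d = 3 then 3 else 2, by split <;> omega⟩ with hy
    obtain ⟨v0, v1, v2, v3, v4⟩ := hval y
    have hyv : y.val = if d = 3 then 3 else 2 := rfl
    have hlt : (h y).val + 1 - y.val ∈ Set.Icc 1 2 ∧ y.val ≤ (h y).val + 1 := by
      split_ifs at hyv with h3
      · have := v4 (by omega)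
        simp only [Set.mem_Icc]; omega
      · have := v2 (by omega) (by omega)
        simp only [Set.mem_Icc]; omega
    have := Nat.le_of_dvd (by have := hlt.1.1; omega) ((Nat.modEq_iff_dvd' hlt.2).1 he.symm)
    have := hlt.1.2
    omega

set_option maxHeartbeats 2000000 in
/-- The second target (`5 ≤ d`): conjugate by two transpositions. -/
theorem bad_target_two {p a : ℕ} [hp : Fact p.Prime] [NeZero (p ^ a)] (hp2 : 2 < p) (ha : 0 < a)
    {d : ℕ} (hd : 5 ≤ d) (hdo : Odd d) (w : Perm (Fin (p ^ a))) (hw : Standard d w)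
    (hdL : d ≤ p ^ a) (hord : ∃ k : ℕ, w ^ p ^ k = 1) (t0 t1 t3 t4 : Fin (p ^ a))
    (ht0 : t0.val = 0) (ht1 : t1.val = 1) (ht3 : t3.val = 3) (ht4 : t4.val = 4) :
    Bad p (rot (p ^ a))
      ((Equiv.swap t0 t1 * Equiv.swap t3 t4) * w * (Equiv.swap t0 t1 * Equiv.swap t3 t4)⁻¹) := by
  set T := Equiv.swap t0 t1 * Equiv.swap t3 t4 with hT
  set h := T * w * T⁻¹ with hh
  have hh' : ∃ k : ℕ, h ^ p ^ k = 1 := by
    obtain ⟨k, hk⟩ := hord
    exact ⟨k, by rw [hh, conj_pow, hk, mul_one, mul_inv_cancel]⟩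
  obtain ⟨q, hq⟩ := hdo
  have hTv : ∀ z : Fin (p ^ a), (T z).val =
      if z.val = 0 then 1 else if z.val = 1 then 0 else if z.val = 3 then 4 else
        if z.val = 4 then 3 else z.val := by
    intro z
    rw [hT, Perm.mul_apply, val_swap, val_swap, ht0, ht1, ht3, ht4]
    split_ifs <;> first | omega | simp_all
  have hTi : ∀ z, T⁻¹ z = T z := fun z => by
    rw [Perm.inv_eq_iff_eq]
    apply Fin.ext
    rw [hTv, hTv]
    split_ifs <;> first | omega | simp_all
  have hval : ∀ x : Fin (p ^ a),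
      (x.val = 0 → (h x).val = 2) ∧ (x.val = 1 → (h x).val = 0) ∧ (x.val = 2 → (h x).val = 4) ∧
      (x.val = 3 → (d = 5 ∧ (h x).val = 1) ∨ (5 < d ∧ (h x).val = 5)) ∧ (x.val = 4 → (h x).val = 3) ∧
      (5 ≤ x.val → x.val + 1 < d → (h x).val = x.val + 1) ∧
      (5 ≤ x.val → x.val + 1 = d → (h x).val = 1) ∧
      (d ≤ x.val → d ≤ (h x).val ∧
        ((h x).val = x.val ∨ (h x).val = x.val + 1 ∨ (h x).val + 2 ≤ x.val)) := by
    intro x
    have hx : (h x).val = (T (w (T x))).val := by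
      rw [hh, Perm.mul_apply, Perm.mul_apply, hTi]
    have hyv := hTv x
    obtain ⟨w1, w2, w3⟩ := hw (T x)
    rw [hx, hTv (w (T x))]
    refine ⟨fun e => ?_, fun e => ?_, fun e => ?_, fun e => ?_, fun e => ?_, fun e e' => ?_,
      fun e e' => ?_, fun e => ?_⟩ <;> (split_ifs at hyv ⊢ <;> omega)
  refine bad_of_steps hp2 ha h hh' t1 t4
    ⟨if d = 5 then 3 else 5, by split <;> omega⟩ (by rw [(hval t1).2.1 ht1, ht1]) ?_ ?_
  · intro x hx
    obtain ⟨v0, v1, v2, v3, v4, v5, v6, v7⟩ := hval x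
    have := x.isLt
    simp only [Fin.ext_iff, ht1, ht4]
    rcases (show x.val = 0 ∨ x.val = 1 ∨ x.val = 2 ∨ x.val = 3 ∨ x.val = 4 ∨
      (5 ≤ x.val ∧ x.val + 1 < d) ∨ (5 ≤ x.val ∧ x.val + 1 = d) ∨ d ≤ x.val by omega)
      with e | e | e | e | e | ⟨e, e'⟩ | ⟨e, e'⟩ | e
    · have := v0 e; omega
    · omega
    · have := v2 e; omega
    · have := v3 e; omega
    · omega
    · have := v5 e e'; omega
    · have := v6 e e'; omega
    · have := v7 e; omega
  · intro he
    rw [ZMod.natCast_eq_natCast_iff] at he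
    set y : Fin (p ^ a) := ⟨if d = 5 then 3 else 5, by split <;> omega⟩ with hy
    obtain ⟨v0, v1, v2, v3, v4, v5, v6, v7⟩ := hval y
    have hyv : y.val = if d = 5 then 3 else 5 := rfl
    split_ifs at hyv with h5
    · have e1 : (h y).val + 1 = 2 := by have := v3 hyv; omega
      rw [e1, hyv] at he
      have := Nat.le_of_dvd (by norm_num) ((Nat.modEq_iff_dvd' (by norm_num)).1 he)
      omega
    · have e1 : (h y).val + 1 = 7 := by have := v5 (by omega) (by omega); omega
      rw [e1, hyv] at he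
      have := Nat.le_of_dvd (by norm_num) ((Nat.modEq_iff_dvd' (by norm_num)).1 he.symm)
      omega

set_option maxHeartbeats 2000000 in
/-- The long cycle case. -/
theorem long_case {n p a : ℕ} [hp : Fact p.Prime] (hp2 : 2 < p) (ha : 0 < a) (h5 : 5 ≤ p ^ a)
    (hn : p ^ a ≤ n) (U W : Perm (Fin n)) (hL : p ^ a ∈ U.cycleType)
    (hW : ∃ k : ℕ, W ^ p ^ k = 1) (hW1 : W ≠ 1) (hmax : ∀ c ∈ W.cycleType, c ≤ p ^ a) :
    ∃ g : Perm (Fin n), Perm.sign g = 1 ∧ Bad p U (g * W * g⁻¹) := by
  classical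
  haveI : NeZero (p ^ a) := ⟨(pow_pos hp.out.pos _).ne'⟩
  obtain ⟨e, he⟩ := exists_cycle_embedding U hL
  have hm : W.cycleType.sum ≤ n := by
    rw [Perm.sum_cycleType]; exact W.support.card_le_univ.trans (Fintype.card_fin n).le
  obtain ⟨d, ds, hds, hdm, hsub, hsum, hrest⟩ := exists_part hp.out hn W.cycleType
    (fun h => hW1 (Perm.cycleType_eq_zero.1 h))
    (fun c hc => by obtain ⟨i, -, hi⟩ := eq_pow_of_mem_cycleType hp.out hW hc; exact ⟨i, hi⟩)
    hmax hm
  have hodd : ∀ c ∈ W.cycleType, 3 ≤ c ∧ Odd c := by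
    intro c hc
    obtain ⟨i, hi, rfl⟩ := eq_pow_of_mem_cycleType hp.out hW hc
    have := Nat.le_self_pow hi.ne' p
    exact ⟨by omega, (hp.out.odd_of_ne_two (by omega)).pow⟩
  obtain ⟨hd3, hdo⟩ := hodd d hdm
  have hds3 : ∀ i ∈ ds, 3 ≤ i := fun i hi => (hodd i (hds i hi).1).1
  have hdL : d ≤ p ^ a := by omega
  set i0 : Fin (p ^ a) := ⟨0, by omega⟩
  set jd : Fin (p ^ a) := ⟨d - 1, by omega⟩
  -- order of the local copy
  have hordw : ∀ w : Perm (Fin (p ^ a)), w.cycleType = ((d :: ds : List ℕ) : Multiset ℕ) →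
      ∃ k : ℕ, w ^ p ^ k = 1 := by
    intro w hw
    obtain ⟨k, hk⟩ := hW
    refine ⟨k, orderOf_dvd_iff_pow_eq_one.1 ?_⟩
    rw [← Perm.lcm_cycleType, Multiset.lcm_dvd]
    intro c hc
    rw [hw] at hc
    exact (Perm.dvd_of_mem_cycleType (Multiset.mem_of_le hsub hc)).trans
      (orderOf_dvd_of_pow_eq_one hk)
  let t : ∀ i : ℕ, i < 5 → Fin (p ^ a) := fun i hi => ⟨i, by omega⟩
  set t0 := t 0 (by norm_num) with ht0
  set t1 := t 1 (by norm_num) with ht1
  set t3 := t 3 (by norm_num) with ht3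
  set t4 := t 4 (by norm_num) with ht4
  have h01 : Perm.sign (Equiv.swap t0 t1) = -1 :=
    Perm.sign_swap (by simp only [ht0, ht1, t, ne_eq, Fin.ext_iff]; omega)
  have h34 : Perm.sign (Equiv.swap t3 t4) = -1 :=
    Perm.sign_swap (by simp only [ht3, ht4, t, ne_eq, Fin.ext_iff]; omega)
  by_cases hd : d = 3
  · -- all cycles have length three
    obtain ⟨v, c, hvt, hv1, hv2, hc, hcv⟩ : ∃ v c : Perm (Fin (p ^ a)),
        v.cycleType = (ds : Multiset ℕ) ∧ (∀ x : Fin (p ^ a), x.val < d → v x = x) ∧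
        (∀ x : Fin (p ^ a), d ≤ x.val →
          v x = x ∨ (v x).val = x.val + 1 ∨ ((v x).val + 2 ≤ x.val ∧ d ≤ (v x).val)) ∧
        Perm.sign c = -1 ∧ c * (Fin.cycleIcc i0 jd * v) = Fin.cycleIcc i0 jd * v * c := by
      subst hd
      cases ds with
      | nil =>
        refine ⟨1, Equiv.swap t3 t4, by simp, fun _ _ => rfl, fun _ _ => Or.inl rfl, h34, ?_⟩
        rw [mul_one]
        have hfix : ∀ x : Fin (p ^ a), 3 ≤ x.val → Fin.cycleIcc i0 jd x = x := fun x hx =>
          Fin.cycleIcc_of_gt (by simp only [jd, Fin.lt_def]; omega)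
        rw [Equiv.swap_mul_eq_mul_swap]
        congr 1
        rw [show (Fin.cycleIcc i0 jd)⁻¹ t3 = t3 from Perm.inv_eq_iff_eq.2 (hfix t3 (le_refl 3)).symm,
          show (Fin.cycleIcc i0 jd)⁻¹ t4 = t4 from
            Perm.inv_eq_iff_eq.2 (hfix t4 (by simp [ht4, t])).symm]
      | cons d2 rest =>
        have hd2 : d2 = 3 := le_antisymm (hds d2 List.mem_cons_self).2 (hds3 d2 List.mem_cons_self)
        subst hd2
        rw [List.sum_cons] at hsum
        obtain ⟨v', hv't, hv'1, hv'2⟩ := exists_intervals (L := p ^ a) rest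
          (fun i hi => hds3 i (List.mem_cons_of_mem _ hi)) 6 (by omega)
        have hL6 : 6 ≤ p ^ a := by omega
        set i3 : Fin (p ^ a) := ⟨3, by omega⟩ with hi3
        set j5 : Fin (p ^ a) := ⟨5, by omega⟩ with hj5
        set C := Fin.cycleIcc i0 jd with hC
        set D := Fin.cycleIcc i3 j5 with hD
        have hCv : ∀ x : Fin (p ^ a), (C x).val =
            if x.val < 2 then x.val + 1 else if x.val = 2 then 0 else x.val := by
          intro x
          split_ifs with h1 h2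
          · rw [hC, Fin.cycleIcc_of_ge_of_lt (show i0 ≤ x from Nat.zero_le _)
              (by simp only [jd, Fin.lt_def]; omega), Fin.val_add_one_of_lt' (by omega)]
          · rw [show x = jd from Fin.ext (show x.val = 3 - 1 by omega), hC,
              Fin.cycleIcc_of_last (Nat.zero_le _)]
          · rw [hC, Fin.cycleIcc_of_gt (by simp only [jd, Fin.lt_def]; omega)]
        have hDv : ∀ x : Fin (p ^ a), (D x).val =
            if x.val < 3 then x.val else if x.val < 5 then x.val + 1 else if x.val = 5 then 3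
              else x.val := by
          intro x
          split_ifs with h1 h2 h3
          · rw [hD, Fin.cycleIcc_of_lt (by simp only [i3, Fin.lt_def]; omega)]
          · rw [hD, Fin.cycleIcc_of_ge_of_lt (by simp only [i3, Fin.le_def]; omega)
              (by simp only [j5, Fin.lt_def]; omega), Fin.val_add_one_of_lt' (by omega)]
          · rw [show x = j5 from Fin.ext h3, hD,
              Fin.cycleIcc_of_last (by simp only [i3, j5, Fin.le_def]; omega)]
          · rw [hD, Fin.cycleIcc_of_gt (by simp only [j5, Fin.lt_def]; omega)]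
        have hv'v : ∀ x : Fin (p ^ a), (x.val < 6 → (v' x).val = x.val) ∧ (6 ≤ x.val →
            6 ≤ (v' x).val ∧
              ((v' x).val = x.val ∨ (v' x).val = x.val + 1 ∨ (v' x).val + 2 ≤ x.val)) := by
          intro x
          refine ⟨fun h => by rw [hv'1 x h], fun h => ?_⟩
          rcases hv'2 x h with e | e | ⟨e1, e2⟩
          · rw [e]; omega
          · omega
          · omega
        have hdisj : Perm.Disjoint D v' := fun x => by
          by_cases h : x.val < 6
          · exact Or.inr (hv'1 x h)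
          · left; apply Fin.ext; rw [hDv]; split_ifs <;> omega
        let f0 : Fin (p ^ a) := ⟨0, by omega⟩
        let f1 : Fin (p ^ a) := ⟨1, by omega⟩
        let f2 : Fin (p ^ a) := ⟨2, by omega⟩
        let f4 : Fin (p ^ a) := ⟨4, by omega⟩
        refine ⟨D * v', Equiv.swap f0 i3 * Equiv.swap f1 f4 * Equiv.swap f2 j5, ?_, ?_, ?_, ?_, ?_⟩
        · rw [hdisj.cycleType_mul, hv't, hD,
            Fin.cycleType_cycleIcc_of_lt (by simp only [i3, j5, Fin.lt_def]; omega), ← Multiset.cons_coe]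
          rfl
        · intro x hx
          apply Fin.ext
          rw [Perm.mul_apply, hDv, (hv'v x).1 (by omega), if_pos hx]
        · intro x hx
          have e := hDv (v' x)
          have e' := hv'v x
          rw [Fin.ext_iff, Perm.mul_apply]
          split_ifs at e <;> omega
        · rw [map_mul, map_mul, Perm.sign_swap, Perm.sign_swap, Perm.sign_swap] <;>
            first
              | decide
              | (simp only [f0, f1, f2, f4, i3, j5, ne_eq, Fin.ext_iff]; omega)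
        · set c := Equiv.swap f0 i3 * Equiv.swap f1 f4 * Equiv.swap f2 j5 with hcdef
          have hcv : ∀ z : Fin (p ^ a), (c z).val =
              if z.val < 3 then z.val + 3 else if z.val < 6 then z.val - 3 else z.val := by
            intro z
            rw [hcdef, Perm.mul_apply, Perm.mul_apply, val_swap, val_swap, val_swap]
            simp only [f0, f1, f2, f4, i3, j5]
            split_ifs <;> first | omega | simp_all
          ext x
          simp only [Perm.mul_apply]
          rw [hcv, hCv, hDv]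
          have e1 := hv'v x
          have e2 := hv'v (c x)
          have e3 := hcv x
          rw [hCv, hDv]
          by_cases hx : x.val < 6
          · have e4 : (v' x).val = x.val := e1.1 hx
            have e5 : (c x).val < 6 := by split_ifs at e3 <;> omega
            rw [e4, e2.1 e5, e3]
            split_ifs <;> omega
          · have e4 := e1.2 (by omega)
            have e5 : c x = x := by apply Fin.ext; split_ifs at e3 <;> omega
            rw [e5]
            split_ifs <;> omega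
    obtain ⟨hstd, hct⟩ := exists_standard d hd3 hdL v hv1 hv2
    rw [hvt, ← Multiset.cons_coe] at *
    set w0 := Fin.cycleIcc i0 jd * v with hw0
    have hb := bad_target_one hp2 ha h5 hd3 hdo w0 hstd hdL (hordw w0 (by rw [hct, Multiset.cons_coe]))
      t0 t1 rfl rfl
    refine transplant e U W (rot (p ^ a)) w0 he (by rw [hct]; exact hsub)
      (by rw [hct, Fintype.card_fin]; exact hrest) (Equiv.swap t0 t1) (Equiv.swap t0 t1 * c) h01
      (by rw [map_mul, h01, hc]; rfl) hb ?_
    have : (Equiv.swap t0 t1 * c) * w0 * (Equiv.swap t0 t1 * c)⁻¹ =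
        Equiv.swap t0 t1 * w0 * (Equiv.swap t0 t1)⁻¹ := by
      rw [mul_assoc (Equiv.swap t0 t1) c, hcv]; group
    rw [this]
    exact hb
  · obtain ⟨v, hvt, hv1, hv2⟩ := exists_intervals (L := p ^ a) ds hds3 d hsum
    obtain ⟨q, hq⟩ := hdo
    have hd5 : 5 ≤ d := by omega
    obtain ⟨hstd, hct⟩ := exists_standard d hd3 hdL v hv1 hv2
    rw [hvt, Multiset.cons_coe] at hct
    set w0 := Fin.cycleIcc i0 jd * v with hw0
    exact transplant e U W (rot (p ^ a)) w0 he (by rw [hct]; exact hsub)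
      (by rw [hct, Fintype.card_fin]; exact hrest) (Equiv.swap t0 t1)
      (Equiv.swap t0 t1 * Equiv.swap t3 t4) h01 (by rw [map_mul, h01, h34]; rfl)
      (bad_target_one hp2 ha h5 hd3 ⟨q, hq⟩ w0 hstd hdL (hordw w0 hct) t0 t1 rfl rfl)
      (bad_target_two hp2 ha hd5 ⟨q, hq⟩ w0 hstd hdL (hordw w0 hct) t0 t1 t3 t4 rfl rfl rfl rfl)

end CfsgLib.PermGroups.FreePair54
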