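import Mathlib
import Cfsg.Agent.PermGroups.FreePair54

/-!
Two elements of `p`-power order in a symmetric group: the case of three-cycles, and the full result.
-/

set_option autoImplicit false
set_option linter.style.haveILetI false

open Equiv

namespace CfsgLib.PermGroups.FreePair54

/-- A permutation carrying a given pattern on an embedded set. -/
theorem exists_embedding_of_type {n : ℕ} {X : Type*} [Fintype X] [DecidableEq X]
    (U : Perm (Fin n)) (u0 : Perm X) (hle : u0.cycleType ≤ U.cycleType)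
    (hsum : (U.cycleType - u0.cycleType).sum + Fintype.card X ≤ n) :
    ∃ e : X ↪ Fin n, ∀ x, U (e x) = e (u0 x) := by
  classical
  obtain ⟨e⟩ : Nonempty (X ↪ Fin n) :=
    Function.Embedding.nonempty_of_card_le (by rw [Fintype.card_fin]; omega)
  let f : X ≃ {y // y ∈ Set.range e} := Equiv.ofInjective e e.injective
  obtain ⟨r0, hr0⟩ := (Perm.exists_with_cycleType_iff {y : Fin n // y ∉ Set.range e}
      (m := U.cycleType - u0.cycleType)).2 ⟨by
    have h1 := Fintype.card_subtype_compl (fun y : Fin n => y ∈ Set.range e)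
    have h2 : Fintype.card {y : Fin n // y ∈ Set.range e} = Fintype.card X :=
      (Fintype.card_congr f).symm
    rw [h1, h2, Fintype.card_fin]; omega,
    fun a ha => Perm.two_le_of_mem_cycleType (Multiset.mem_of_le (Multiset.sub_le_self _ _) ha)⟩
  let r : Perm (Fin n) := Perm.ofSubtype r0
  let ι : Perm X →* Perm (Fin n) := Perm.extendDomainHom f
  have hr : ∀ x, r (e x) = e x := fun x =>
    Perm.ofSubtype_apply_of_not_mem r0 (not_not.2 ⟨x, rfl⟩)
  have hι : ∀ x, ι u0 (e x) = e (u0 x) := fun x => Perm.extendDomain_apply_image u0 f x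
  have hd : Perm.Disjoint (ι u0) r := by
    intro y
    by_cases hy : y ∈ Set.range e
    · exact Or.inr (Perm.ofSubtype_apply_of_not_mem r0 (not_not.2 hy))
    · exact Or.inl (Perm.extendDomain_apply_not_subtype u0 f hy)
  have hct : (ι u0 * r).cycleType = U.cycleType := by
    have e1 : (ι u0).cycleType = u0.cycleType := Perm.cycleType_extendDomain f
    have e2 : r.cycleType = U.cycleType - u0.cycleType := by
      rw [show r = Perm.ofSubtype r0 from rfl, Perm.cycleType_ofSubtype, hr0]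
    rw [hd.cycleType_mul, e1, e2, add_tsub_cancel_of_le hle]
  obtain ⟨σ, hσ⟩ := isConj_iff.1 (Perm.isConj_iff_cycleType_eq.2 hct)
  refine ⟨e.trans σ.toEmbedding, fun x => ?_⟩
  change U (σ (e x)) = σ (e (u0 x))
  rw [← hσ, Perm.mul_apply, Perm.mul_apply, CycleSolvable54.perm_inv_apply_self, Perm.mul_apply,
    hr, hι]

/-- A triangle group criterion for insolubility. -/
theorem not_solvable_of_two_three_five {G : Type*} [Group G] (S : Subgroup G) {x y : G}
    (hx : x ∈ S) (hy : y ∈ S) (hx1 : x ≠ 1) (h2 : x ^ 2 = 1) (h3 : y ^ 3 = 1)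
    (h5 : (x * y) ^ 5 = 1) : ¬ Group.IsSolvable S := by
  intro hS
  haveI := hS
  let K : Subgroup S := Subgroup.closure {⟨x, hx⟩, ⟨y, hy⟩}
  let x' : K := ⟨⟨x, hx⟩, Subgroup.subset_closure (by simp)⟩
  let y' : K := ⟨⟨y, hy⟩, Subgroup.subset_closure (by simp)⟩
  haveI : Nontrivial K := ⟨x', 1, fun e => hx1 (congrArg (fun r : K => ((r : S) : G)) e)⟩
  apply (Group.IsSolvable.commutator_lt_top_of_nontrivial K).ne
  set φ := Abelianization.of (G := K)
  have hA : φ x' ^ 2 = 1 := by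
    rw [← map_pow, show x' ^ 2 = 1 from Subtype.ext (Subtype.ext h2), map_one]
  have hB : φ y' ^ 3 = 1 := by
    rw [← map_pow, show y' ^ 3 = 1 from Subtype.ext (Subtype.ext h3), map_one]
  have hAB : (φ x' * φ y') ^ 5 = 1 := by
    rw [← map_mul, ← map_pow, show (x' * y') ^ 5 = 1 from Subtype.ext (Subtype.ext h5), map_one]
  have hxy : φ x' = 1 ∧ φ y' = 1 := by
    have e : φ x' * φ y' ^ 2 = 1 := by
      rw [mul_pow, pow_succ (φ x') 4, show 4 = 2 * 2 from rfl, pow_mul, hA, one_pow, one_mul,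
        show 5 = 3 + 2 from rfl, pow_add, hB, one_mul] at hAB
      exact hAB
    have e' : φ x' = φ y' := by
      calc φ x' = φ x' * φ y' ^ 3 := by rw [hB, mul_one]
        _ = φ x' * φ y' ^ 2 * φ y' := by rw [pow_succ _ 2, mul_assoc]
        _ = φ y' := by rw [e, one_mul]
    have e'' : φ x' = 1 := by
      rw [← e', ← pow_succ'] at e
      rwa [pow_succ, hA, one_mul] at e
    exact ⟨e'', e' ▸ e''⟩
  have hK : (⊤ : Subgroup K) ≤ φ.ker := by
    intro r _
    have hle : K ≤ φ.ker.map K.subtype := (Subgroup.closure_le _).2 (by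
      intro z hz
      rcases hz with rfl | rfl
      · exact ⟨x', hxy.1, rfl⟩
      · exact ⟨y', hxy.2, rfl⟩)
    obtain ⟨r', hr', e⟩ := hle r.2
    rwa [← Subtype.ext e]
  rw [Abelianization.ker_of] at hK
  exact eq_top_iff.2 hK

/-- The bad pair certificate for three-cycles. -/
theorem bad_three {X : Type*} (u h : Perm X) (m : ℕ) (hm : Nat.Coprime 3 m)
    (hne : u * h ≠ 1) (hm1 : (u * h) ^ m = 1) (x y : Perm X)
    (hx : x ∈ Subgroup.closure ({u, h} : Set (Perm X)))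
    (hy : y ∈ Subgroup.closure ({u, h} : Set (Perm X)))
    (hx1 : x ≠ 1) (h2 : x ^ 2 = 1) (h3 : y ^ 3 = 1) (h5 : (x * y) ^ 5 = 1) : Bad 3 u h := by
  refine ⟨?_, not_solvable_of_two_three_five _ hx hy hx1 h2 h3 h5⟩
  rintro ⟨k, hk⟩
  have h1 : orderOf (u * h) ∣ Nat.gcd (3 ^ k) m :=
    Nat.dvd_gcd (orderOf_dvd_of_pow_eq_one hk) (orderOf_dvd_of_pow_eq_one hm1)
  rw [Nat.Coprime.gcd_eq_one (Nat.Coprime.pow_left k hm), Nat.dvd_one, orderOf_eq_one_iff] at h1
  exact hne h1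

/-- `(0 1 2)` on five points. -/
def c5 : Perm (Fin 5) := swap 0 2 * swap 0 1
/-- `(0 1 2)` on six points. -/
def c6 : Perm (Fin 6) := swap 0 2 * swap 0 1
/-- `(0 1 2)(3 4 5)`. -/
def d6 : Perm (Fin 6) := c6 * (swap 3 5 * swap 3 4)

theorem cycleType_c5 : c5.cycleType = {3} :=
  Perm.isThreeCycle_swap_mul_swap_same (by decide +kernel) (by decide +kernel) (by decide +kernel)

theorem cycleType_c6 : c6.cycleType = {3} :=
  Perm.isThreeCycle_swap_mul_swap_same (by decide +kernel) (by decide +kernel) (by decide +kernel)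

theorem cycleType_d6 : d6.cycleType = {3, 3} := by
  have h : (swap (3 : Fin 6) 5 * swap 3 4).cycleType = {3} :=
    Perm.isThreeCycle_swap_mul_swap_same (by decide +kernel) (by decide +kernel) (by decide +kernel)
  rw [d6, Perm.Disjoint.cycleType_mul (by intro x; revert x; decide +kernel), cycleType_c6, h]
  rfl

/-- A relabelling. -/
def tOdd0 : Perm (Fin 5) := ⟨![0, 3, 4, 2, 1], ![0, 4, 3, 1, 2], by decide +kernel, by decide +kernel⟩

/-- A relabelling. -/
def tEven0 : Perm (Fin 5) := ⟨![0, 3, 4, 1, 2], ![0, 3, 4, 1, 2], by decide +kernel, by decide +kernel⟩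

theorem bad_tOdd0 : Bad 3 c5 (tOdd0 * c5 * tOdd0⁻¹) :=
  have hu : c5 ∈ Subgroup.closure ({c5, (tOdd0 * c5 * tOdd0⁻¹)} : Set (Perm (Fin 5))) :=
    Subgroup.subset_closure (Set.mem_insert _ _)
  have hh : (tOdd0 * c5 * tOdd0⁻¹) ∈ Subgroup.closure ({c5, (tOdd0 * c5 * tOdd0⁻¹)} : Set (Perm (Fin 5))) :=
    Subgroup.subset_closure (Set.mem_insert_of_mem _ rfl)
  bad_three _ _ 5 (by decide +kernel) (by decide +kernel) (by decide +kernel) (c5 * c5 * (tOdd0 * c5 * tOdd0⁻¹) * c5 * (tOdd0 * c5 * tOdd0⁻¹)) c5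
    (mul_mem (mul_mem (mul_mem (mul_mem hu hu) hh) hu) hh) hu (by decide +kernel) (by decide +kernel) (by decide +kernel) (by decide +kernel)

theorem bad_tEven0 : Bad 3 c5 (tEven0 * c5 * tEven0⁻¹) :=
  have hu : c5 ∈ Subgroup.closure ({c5, (tEven0 * c5 * tEven0⁻¹)} : Set (Perm (Fin 5))) :=
    Subgroup.subset_closure (Set.mem_insert _ _)
  have hh : (tEven0 * c5 * tEven0⁻¹) ∈ Subgroup.closure ({c5, (tEven0 * c5 * tEven0⁻¹)} : Set (Perm (Fin 5))) :=
    Subgroup.subset_closure (Set.mem_insert_of_mem _ rfl)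
  bad_three _ _ 5 (by decide +kernel) (by decide +kernel) (by decide +kernel) (c5 * c5 * (tEven0 * c5 * tEven0⁻¹) * c5 * (tEven0 * c5 * tEven0⁻¹)) c5
    (mul_mem (mul_mem (mul_mem (mul_mem hu hu) hh) hu) hh) hu (by decide +kernel) (by decide +kernel) (by decide +kernel) (by decide +kernel)

/-- A relabelling. -/
def tOdd1 : Perm (Fin 6) := ⟨![0, 3, 4, 1, 5, 2], ![0, 3, 5, 1, 2, 4], by decide +kernel, by decide +kernel⟩

/-- A relabelling. -/
def tEven1 : Perm (Fin 6) := ⟨![0, 3, 4, 1, 2, 5], ![0, 3, 4, 1, 2, 5], by decide +kernel, by decide +kernel⟩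

theorem bad_tOdd1 : Bad 3 c6 (tOdd1 * c6 * tOdd1⁻¹) :=
  have hu : c6 ∈ Subgroup.closure ({c6, (tOdd1 * c6 * tOdd1⁻¹)} : Set (Perm (Fin 6))) :=
    Subgroup.subset_closure (Set.mem_insert _ _)
  have hh : (tOdd1 * c6 * tOdd1⁻¹) ∈ Subgroup.closure ({c6, (tOdd1 * c6 * tOdd1⁻¹)} : Set (Perm (Fin 6))) :=
    Subgroup.subset_closure (Set.mem_insert_of_mem _ rfl)
  bad_three _ _ 5 (by decide +kernel) (by decide +kernel) (by decide +kernel) (c6 * c6 * (tOdd1 * c6 * tOdd1⁻¹) * c6 * (tOdd1 * c6 * tOdd1⁻¹)) c6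
    (mul_mem (mul_mem (mul_mem (mul_mem hu hu) hh) hu) hh) hu (by decide +kernel) (by decide +kernel) (by decide +kernel) (by decide +kernel)

theorem bad_tEven1 : Bad 3 c6 (tEven1 * c6 * tEven1⁻¹) :=
  have hu : c6 ∈ Subgroup.closure ({c6, (tEven1 * c6 * tEven1⁻¹)} : Set (Perm (Fin 6))) :=
    Subgroup.subset_closure (Set.mem_insert _ _)
  have hh : (tEven1 * c6 * tEven1⁻¹) ∈ Subgroup.closure ({c6, (tEven1 * c6 * tEven1⁻¹)} : Set (Perm (Fin 6))) :=
    Subgroup.subset_closure (Set.mem_insert_of_mem _ rfl)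
  bad_three _ _ 5 (by decide +kernel) (by decide +kernel) (by decide +kernel) (c6 * c6 * (tEven1 * c6 * tEven1⁻¹) * c6 * (tEven1 * c6 * tEven1⁻¹)) c6
    (mul_mem (mul_mem (mul_mem (mul_mem hu hu) hh) hu) hh) hu (by decide +kernel) (by decide +kernel) (by decide +kernel) (by decide +kernel)

/-- A relabelling. -/
def tOdd2 : Perm (Fin 6) := ⟨![0, 1, 3, 2, 4, 5], ![0, 1, 3, 2, 4, 5], by decide +kernel, by decide +kernel⟩

/-- A relabelling. -/
def tEven2 : Perm (Fin 6) := ⟨![2, 4, 5, 0, 1, 3], ![3, 4, 0, 5, 1, 2], by decide +kernel, by decide +kernel⟩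

theorem bad_tOdd2 : Bad 3 c6 (tOdd2 * d6 * tOdd2⁻¹) :=
  have hu : c6 ∈ Subgroup.closure ({c6, (tOdd2 * d6 * tOdd2⁻¹)} : Set (Perm (Fin 6))) :=
    Subgroup.subset_closure (Set.mem_insert _ _)
  have hh : (tOdd2 * d6 * tOdd2⁻¹) ∈ Subgroup.closure ({c6, (tOdd2 * d6 * tOdd2⁻¹)} : Set (Perm (Fin 6))) :=
    Subgroup.subset_closure (Set.mem_insert_of_mem _ rfl)
  bad_three _ _ 4 (by decide +kernel) (by decide +kernel) (by decide +kernel) (c6 * (tOdd2 * d6 * tOdd2⁻¹) * c6 * (tOdd2 * d6 * tOdd2⁻¹)) c6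
    (mul_mem (mul_mem (mul_mem hu hh) hu) hh) hu (by decide +kernel) (by decide +kernel) (by decide +kernel) (by decide +kernel)

theorem bad_tEven2 : Bad 3 c6 (tEven2 * d6 * tEven2⁻¹) :=
  have hu : c6 ∈ Subgroup.closure ({c6, (tEven2 * d6 * tEven2⁻¹)} : Set (Perm (Fin 6))) :=
    Subgroup.subset_closure (Set.mem_insert _ _)
  have hh : (tEven2 * d6 * tEven2⁻¹) ∈ Subgroup.closure ({c6, (tEven2 * d6 * tEven2⁻¹)} : Set (Perm (Fin 6))) :=
    Subgroup.subset_closure (Set.mem_insert_of_mem _ rfl)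
  bad_three _ _ 4 (by decide +kernel) (by decide +kernel) (by decide +kernel) (c6 * (tEven2 * d6 * tEven2⁻¹) * c6 * (tEven2 * d6 * tEven2⁻¹)) c6
    (mul_mem (mul_mem (mul_mem hu hh) hu) hh) hu (by decide +kernel) (by decide +kernel) (by decide +kernel) (by decide +kernel)

/-- A relabelling. -/
def tOdd3 : Perm (Fin 6) := ⟨![0, 1, 3, 2, 4, 5], ![0, 1, 3, 2, 4, 5], by decide +kernel, by decide +kernel⟩

/-- A relabelling. -/
def tEven3 : Perm (Fin 6) := ⟨![0, 1, 3, 2, 5, 4], ![0, 1, 3, 2, 5, 4], by decide +kernel, by decide +kernel⟩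

theorem bad_tOdd3 : Bad 3 d6 (tOdd3 * c6 * tOdd3⁻¹) :=
  have hu : d6 ∈ Subgroup.closure ({d6, (tOdd3 * c6 * tOdd3⁻¹)} : Set (Perm (Fin 6))) :=
    Subgroup.subset_closure (Set.mem_insert _ _)
  have hh : (tOdd3 * c6 * tOdd3⁻¹) ∈ Subgroup.closure ({d6, (tOdd3 * c6 * tOdd3⁻¹)} : Set (Perm (Fin 6))) :=
    Subgroup.subset_closure (Set.mem_insert_of_mem _ rfl)
  bad_three _ _ 4 (by decide +kernel) (by decide +kernel) (by decide +kernel) (d6 * (tOdd3 * c6 * tOdd3⁻¹) * d6 * (tOdd3 * c6 * tOdd3⁻¹)) d6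
    (mul_mem (mul_mem (mul_mem hu hh) hu) hh) hu (by decide +kernel) (by decide +kernel) (by decide +kernel) (by decide +kernel)

theorem bad_tEven3 : Bad 3 d6 (tEven3 * c6 * tEven3⁻¹) :=
  have hu : d6 ∈ Subgroup.closure ({d6, (tEven3 * c6 * tEven3⁻¹)} : Set (Perm (Fin 6))) :=
    Subgroup.subset_closure (Set.mem_insert _ _)
  have hh : (tEven3 * c6 * tEven3⁻¹) ∈ Subgroup.closure ({d6, (tEven3 * c6 * tEven3⁻¹)} : Set (Perm (Fin 6))) :=
    Subgroup.subset_closure (Set.mem_insert_of_mem _ rfl)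
  bad_three _ _ 4 (by decide +kernel) (by decide +kernel) (by decide +kernel) (d6 * (tEven3 * c6 * tEven3⁻¹) * d6 * (tEven3 * c6 * tEven3⁻¹)) d6
    (mul_mem (mul_mem (mul_mem hu hh) hu) hh) hu (by decide +kernel) (by decide +kernel) (by decide +kernel) (by decide +kernel)

/-- A relabelling. -/
def tOdd4 : Perm (Fin 6) := ⟨![0, 3, 4, 1, 5, 2], ![0, 3, 5, 1, 2, 4], by decide +kernel, by decide +kernel⟩

/-- A relabelling. -/
def tEven4 : Perm (Fin 6) := ⟨![1, 5, 2, 0, 3, 4], ![3, 0, 2, 4, 5, 1], by decide +kernel, by decide +kernel⟩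

theorem bad_tOdd4 : Bad 3 d6 (tOdd4 * d6 * tOdd4⁻¹) :=
  have hu : d6 ∈ Subgroup.closure ({d6, (tOdd4 * d6 * tOdd4⁻¹)} : Set (Perm (Fin 6))) :=
    Subgroup.subset_closure (Set.mem_insert _ _)
  have hh : (tOdd4 * d6 * tOdd4⁻¹) ∈ Subgroup.closure ({d6, (tOdd4 * d6 * tOdd4⁻¹)} : Set (Perm (Fin 6))) :=
    Subgroup.subset_closure (Set.mem_insert_of_mem _ rfl)
  bad_three _ _ 5 (by decide +kernel) (by decide +kernel) (by decide +kernel) (d6 * d6 * (tOdd4 * d6 * tOdd4⁻¹) * d6 * (tOdd4 * d6 * tOdd4⁻¹)) d6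
    (mul_mem (mul_mem (mul_mem (mul_mem hu hu) hh) hu) hh) hu (by decide +kernel) (by decide +kernel) (by decide +kernel) (by decide +kernel)

theorem bad_tEven4 : Bad 3 d6 (tEven4 * d6 * tEven4⁻¹) :=
  have hu : d6 ∈ Subgroup.closure ({d6, (tEven4 * d6 * tEven4⁻¹)} : Set (Perm (Fin 6))) :=
    Subgroup.subset_closure (Set.mem_insert _ _)
  have hh : (tEven4 * d6 * tEven4⁻¹) ∈ Subgroup.closure ({d6, (tEven4 * d6 * tEven4⁻¹)} : Set (Perm (Fin 6))) :=
    Subgroup.subset_closure (Set.mem_insert_of_mem _ rfl)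
  bad_three _ _ 5 (by decide +kernel) (by decide +kernel) (by decide +kernel) (d6 * d6 * (tEven4 * d6 * tEven4⁻¹) * d6 * (tEven4 * d6 * tEven4⁻¹)) d6
    (mul_mem (mul_mem (mul_mem (mul_mem hu hu) hh) hu) hh) hu (by decide +kernel) (by decide +kernel) (by decide +kernel) (by decide +kernel)

/-- All cycles of length three. -/
theorem short_case {n : ℕ} (hn : 5 ≤ n) (U W : Perm (Fin n)) (hU1 : U ≠ 1) (hW1 : W ≠ 1)
    (hU : ∀ c ∈ U.cycleType, c = 3) (hW : ∀ c ∈ W.cycleType, c = 3) :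
    ∃ g : Perm (Fin n), Perm.sign g = 1 ∧ Bad 3 U (g * W * g⁻¹) := by
  classical
  have key : ∀ V : Perm (Fin n), V ≠ 1 → (∀ c ∈ V.cycleType, c = 3) →
      ∃ k, V.cycleType = Multiset.replicate (k + 1) 3 ∧ 3 * (k + 1) ≤ n := by
    intro V hV hall
    have hrep := Multiset.eq_replicate_card.2 hall
    have hpos : 0 < Multiset.card V.cycleType :=
      Multiset.card_pos.2 (fun h => hV (Perm.cycleType_eq_zero.1 h))
    refine ⟨Multiset.card V.cycleType - 1, by rwa [Nat.sub_add_cancel hpos], ?_⟩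
    have h1 := V.support.card_le_univ
    rw [← Perm.sum_cycleType, hrep, Multiset.sum_replicate, smul_eq_mul, Fintype.card_fin] at h1
    omega
  obtain ⟨k, hk, hkn⟩ := key U hU1 hU
  obtain ⟨l, hl, hln⟩ := key W hW1 hW
  have fit1 : ∀ (V : Perm (Fin n)) (j : ℕ), V.cycleType = Multiset.replicate (j + 1) 3 →
      ({3} : Multiset ℕ) ≤ V.cycleType ∧ (V.cycleType - {3}).sum = 3 * j := by
    intro V j hj
    rw [hj, Multiset.replicate_succ, ← Multiset.singleton_add, add_tsub_cancel_left,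
      Multiset.sum_replicate, smul_eq_mul, mul_comm]
    exact ⟨le_self_add, rfl⟩
  have fit2 : ∀ (V : Perm (Fin n)) (j : ℕ), V.cycleType = Multiset.replicate (j + 2) 3 →
      ({3, 3} : Multiset ℕ) ≤ V.cycleType ∧ (V.cycleType - {3, 3}).sum = 3 * j := by
    intro V j hj
    have e : ({3, 3} : Multiset ℕ) = Multiset.replicate 2 3 := rfl
    rw [hj, e, Nat.add_comm j 2, Multiset.replicate_add, add_tsub_cancel_left,
      Multiset.sum_replicate, smul_eq_mul, mul_comm]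
    exact ⟨le_self_add, rfl⟩
  rcases (show n = 5 ∨ 6 ≤ n by omega) with h5 | h6
  · obtain rfl : k = 0 := by omega
    obtain rfl : l = 0 := by omega
    obtain ⟨a1, a2⟩ := fit1 U 0 hk
    obtain ⟨b1, b2⟩ := fit1 W 0 hl
    obtain ⟨e, he⟩ := exists_embedding_of_type U c5 (cycleType_c5 ▸ a1)
      (by rw [cycleType_c5, a2, Fintype.card_fin]; omega)
    exact transplant e U W c5 c5 he (cycleType_c5 ▸ b1)
      (by rw [cycleType_c5, b2, Fintype.card_fin]; omega) tOdd0 tEven0 (by decide +kernel) (by decide +kernel)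
      bad_tOdd0 bad_tEven0
  · have fit : ∀ (V : Perm (Fin n)) (j : ℕ), V.cycleType = Multiset.replicate (j + 1) 3 →
        3 * (j + 1) ≤ n →
        (c6.cycleType ≤ V.cycleType ∧ (V.cycleType - c6.cycleType).sum + 6 ≤ n) ∨
        (d6.cycleType ≤ V.cycleType ∧ (V.cycleType - d6.cycleType).sum + 6 ≤ n) := by
      intro V j hj hjn
      cases j with
      | zero =>
        obtain ⟨a1, a2⟩ := fit1 V 0 hj
        exact Or.inl ⟨cycleType_c6 ▸ a1, by rw [cycleType_c6, a2]; omega⟩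
      | succ j =>
        obtain ⟨a1, a2⟩ := fit2 V j hj
        exact Or.inr ⟨cycleType_d6 ▸ a1, by rw [cycleType_d6, a2]; omega⟩
    rcases fit U k hk hkn with ⟨a1, a2⟩ | ⟨a1, a2⟩ <;>
      obtain ⟨e, he⟩ := exists_embedding_of_type U _ a1 (by simpa using a2) <;>
      rcases fit W l hl hln with ⟨b1, b2⟩ | ⟨b1, b2⟩
    · exact transplant e U W _ _ he b1 (by simpa using b2) tOdd1 tEven1 (by decide +kernel) (by decide +kernel)
        bad_tOdd1 bad_tEven1
    · exact transplant e U W _ _ he b1 (by simpa using b2) tOdd2 tEven2 (by decide +kernel) (by decide +kernel)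
        bad_tOdd2 bad_tEven2
    · exact transplant e U W _ _ he b1 (by simpa using b2) tOdd3 tEven3 (by decide +kernel) (by decide +kernel)
        bad_tOdd3 bad_tEven3
    · exact transplant e U W _ _ he b1 (by simpa using b2) tOdd4 tEven4 (by decide +kernel) (by decide +kernel)
        bad_tOdd4 bad_tEven4

/-- The result for permutations, the first having the longest cycle. -/
theorem ordered {n p : ℕ} (hp : p.Prime) (hp3 : 3 ≤ p) (hn : 5 ≤ n) (U W : Perm (Fin n))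
    (hU1 : U ≠ 1) (hW1 : W ≠ 1) (hU : ∃ k : ℕ, U ^ p ^ k = 1) (hW : ∃ k : ℕ, W ^ p ^ k = 1)
    {L : ℕ} (hL : L ∈ U.cycleType) (hmU : ∀ c ∈ U.cycleType, c ≤ L)
    (hmW : ∀ c ∈ W.cycleType, c ≤ L) :
    ∃ g : Perm (Fin n), Perm.sign g = 1 ∧ Bad p U (g * W * g⁻¹) := by
  haveI := Fact.mk hp
  obtain ⟨a, ha, rfl⟩ := eq_pow_of_mem_cycleType hp hU hL
  rcases (show p ^ a < 5 ∨ 5 ≤ p ^ a by omega) with h | h
  · have hpa : p ≤ p ^ a := Nat.le_self_pow ha.ne' p
    have hp' : p = 3 := by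
      rcases (show p = 3 ∨ p = 4 by omega) with h' | h'
      · exact h'
      · subst h'; exact absurd hp (by norm_num)
    subst hp'
    have ha1 : a = 1 := by
      by_contra hne
      have : 3 ^ 2 ≤ 3 ^ a := Nat.pow_le_pow_right (by norm_num) (by omega)
      norm_num at this; omega
    subst ha1
    have three : ∀ V : Perm (Fin n), (∃ k : ℕ, V ^ 3 ^ k = 1) → (∀ c ∈ V.cycleType, c ≤ 3 ^ 1) →
        ∀ c ∈ V.cycleType, c = 3 := by
      intro V hV hm c hc
      obtain ⟨i, hi, rfl⟩ := eq_pow_of_mem_cycleType hp hV hc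
      have h1 := hm _ hc
      have : i ≤ 1 := (Nat.pow_le_pow_iff_right (by norm_num)).1 h1
      rw [show i = 1 by omega, pow_one]
    exact short_case hn U W hU1 hW1 (three U hU hmU) (three W hW hmW)
  · have hn' : p ^ a ≤ n := by
      have h1 := U.support.card_le_univ
      rw [← Perm.sum_cycleType, Fintype.card_fin] at h1
      exact (Multiset.le_sum_of_mem hL).trans h1
    exact long_case (by omega) ha h hn' U W hL hW hW1 hmW

/-- The result for permutations. -/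
theorem exists_bad {n p : ℕ} (hp : p.Prime) (hp3 : 3 ≤ p) (hn : 5 ≤ n) (U W : Perm (Fin n))
    (hU1 : U ≠ 1) (hW1 : W ≠ 1) (hU : ∃ k : ℕ, U ^ p ^ k = 1) (hW : ∃ k : ℕ, W ^ p ^ k = 1) :
    ∃ g : Perm (Fin n), Perm.sign g = 1 ∧ Bad p U (g * W * g⁻¹) := by
  have top : ∀ V : Perm (Fin n), V ≠ 1 → ∃ L ∈ V.cycleType, ∀ c ∈ V.cycleType, c ≤ L := by
    intro V hV
    obtain ⟨c, hc⟩ := Multiset.exists_mem_of_ne_zero (fun h => hV (Perm.cycleType_eq_zero.1 h))
    obtain ⟨L, hL, hmax⟩ := V.cycleType.toFinset.exists_max_image id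
      ⟨c, Multiset.mem_toFinset.2 hc⟩
    exact ⟨L, Multiset.mem_toFinset.1 hL, fun x hx => hmax x (Multiset.mem_toFinset.2 hx)⟩
  obtain ⟨L, hL, hLm⟩ := top U hU1
  obtain ⟨M, hM, hMm⟩ := top W hW1
  rcases le_total M L with h | h
  · exact ordered hp hp3 hn U W hU1 hW1 hU hW hL hLm fun c hc => (hMm c hc).trans h
  obtain ⟨g, hg, hb⟩ := ordered hp hp3 hn W U hW1 hU1 hW hU hM hMm fun c hc => (hLm c hc).trans h
  refine ⟨g⁻¹, by rw [map_inv, hg, inv_one], fun ⟨k, hk⟩ => hb.1 ⟨k, ?_⟩, fun hs => hb.2 ?_⟩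
  · have e : W * (g * U * g⁻¹) = W * g * (U * (g⁻¹ * W * g⁻¹⁻¹)) * (W * g)⁻¹ := by group
    rw [e, conj_pow, hk, mul_one, mul_inv_cancel]
  · have e : (Subgroup.closure {U, g⁻¹ * W * g⁻¹⁻¹}).map (MulAut.conj g).toMonoidHom =
        Subgroup.closure {W, g * U * g⁻¹} := by
      rw [MonoidHom.map_closure, Set.image_pair, Set.pair_comm]
      congr 2
      simp [MulAut.conj_apply, mul_assoc]
    rw [← e]
    haveI := hs
    exact Group.isSolvable_of_surjective ((MulAut.conj g).toMonoidHom.subgroupMap_surjective _)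

end CfsgLib.PermGroups.FreePair54
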