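import Cfsg.Agent.PermGroups.RegularNormal
import Cfsg.Agent.PermGroups.SharplyTwo

/-!
Normal subgroups of multiply transitive groups (Jordan) and of multiply primitive groups.
-/

set_option autoImplicit false
set_option linter.style.haveILetI false

open MulAction

universe u v

namespace CfsgLib.PermGroups

variable {G : Type u} [Group G] {X : Type v} [MulAction G X]

/-- A point stabiliser of a faithful action is faithful on the other points. -/
theorem faithfulSMul_ofStabilizer [FaithfulSMul G X] (a : X) :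
    FaithfulSMul (stabilizer G a) (SubMulAction.ofStabilizer G a) :=
  ⟨fun {g h} hgh => Subtype.ext (FaithfulSMul.eq_of_smul_eq_smul fun x : X => by
    by_cases hx : x = a
    · rw [hx]; exact g.2.trans h.2.symm
    · exact congrArg Subtype.val
        (hgh ⟨x, (SubMulAction.mem_ofStabilizer_iff (G := G) a).2 hx⟩))⟩

/-- The other points of a point stabiliser. -/
theorem card_ofStabilizer [Finite X] (a : X) :
    Nat.card (SubMulAction.ofStabilizer G a) = Nat.card X - 1 := by
  classical
  haveI := Fintype.ofFinite X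
  rw [Nat.card_eq_fintype_card (α := X), ← Finset.card_univ,
    ← Finset.card_erase_of_mem (Finset.mem_univ a), ← Fintype.card_coe,
    ← Nat.card_eq_fintype_card]
  exact Nat.card_congr (Equiv.subtypeEquivRight fun x => by
    simp [SubMulAction.mem_ofStabilizer_iff])

/-- Multiple transitivity of `N ⊓ G_a` on the other points gives one more for `N`. -/
theorem isMultiplyPretransitive_of_subgroupOf {N : Subgroup G} [IsPretransitive N X] (a : X)
    {k : ℕ} (h : IsMultiplyPretransitive (N.subgroupOf (stabilizer G a))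
      (SubMulAction.ofStabilizer G a) k) :
    IsMultiplyPretransitive N X (k + 1) := by
  rw [← Nat.succ_eq_add_one, SubMulAction.ofStabilizer.isMultiplyPretransitive (a := a)]
  let φ : N.subgroupOf (stabilizer G a) → stabilizer N a := fun m =>
    ⟨⟨((m : stabilizer G a) : G), m.2⟩, (m : stabilizer G a).2⟩
  let f : SubMulAction.ofStabilizer G a →ₑ[φ] SubMulAction.ofStabilizer N a :=
    { toFun := fun x => ⟨(x : X), (SubMulAction.mem_ofStabilizer_iff (G := N) a).2
        ((SubMulAction.mem_ofStabilizer_iff (G := G) a).1 x.2)⟩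
      map_smul' := fun _ _ => rfl }
  haveI := h
  refine IsPretransitive.of_embedding (f := f) (fun x => ?_)
  exact ⟨⟨(x : X), (SubMulAction.mem_ofStabilizer_iff (G := G) a).2
    ((SubMulAction.mem_ofStabilizer_iff (G := N) a).1 x.2)⟩, rfl⟩

/-- All point stabilisers of a normal subgroup are trivial as soon as one is. -/
theorem stabilizer_eq_bot_of_normal [IsPretransitive G X] {N : Subgroup G} [N.Normal] {a : X}
    (h : stabilizer N a = ⊥) (b : X) : stabilizer N b = ⊥ := by
  obtain ⟨g, rfl⟩ := exists_smul_eq G a b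
  refine (Subgroup.eq_bot_iff_forall _).2 fun n hn => Subtype.ext ?_
  have hn' : (n : G) • g • a = g • a := hn
  have hmem : g⁻¹ * n * g ∈ N := by simpa using Subgroup.Normal.conj_mem ‹_› (n : G) n.2 g⁻¹
  have h1 : (⟨g⁻¹ * n * g, hmem⟩ : N) = 1 := by
    rw [← Subgroup.mem_bot, ← h]
    change (g⁻¹ * n * g) • a = a
    rw [mul_smul, mul_smul, hn', inv_smul_smul]
  have h2 : g⁻¹ * (n : G) * g = 1 := congrArg Subtype.val h1
  calc (n : G) = g * (g⁻¹ * n * g) * g⁻¹ := by group
    _ = ((1 : N) : G) := by rw [h2]; simp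

/-- A normal subgroup whose point stabiliser is regular on the other points has a regular
subgroup which is normal in the whole group. -/
theorem exists_regular_normal_of_stabilizer_regular [Finite G] [Finite X]
    (hX : 2 ≤ Nat.card X) {N : Subgroup G} [N.Normal] [IsPretransitive N X] (a : X)
    [IsPretransitive G X]
    (htr : IsPretransitive (N.subgroupOf (stabilizer G a)) (SubMulAction.ofStabilizer G a))
    (hreg : ∀ b : X, b ≠ a → ∀ n ∈ N, n • a = a → n • b = b → n = 1) :
    ∃ L : Subgroup G, L.Normal ∧ IsPretransitive L X ∧ ∀ x : X, stabilizer L x = ⊥ := by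
  have h2N : IsMultiplyPretransitive N X 2 :=
    isMultiplyPretransitive_of_subgroupOf a (k := 1) (is_one_pretransitive_iff.2 htr)
  have hsharp : ∀ x : Fin 2 ↪ X, stabilizer N x = ⊥ := by
    intro x
    refine (Subgroup.eq_bot_iff_forall _).2 fun n hn => Subtype.ext ?_
    have h0 : (n : G) • x 0 = x 0 := congrArg (fun e : Fin 2 ↪ X => e 0) hn
    have h1 : (n : G) • x 1 = x 1 := congrArg (fun e : Fin 2 ↪ X => e 1) hn
    obtain ⟨g, hg⟩ := exists_smul_eq G (x 0) a
    have hb : g • x 1 ≠ a := fun e =>
      absurd (x.injective (smul_left_cancel g (e.trans hg.symm))) (by decide)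
    have h := hreg (g • x 1) hb (g * n * g⁻¹) (Subgroup.Normal.conj_mem ‹_› _ n.2 g)
      (by rw [mul_smul, mul_smul, ← hg, inv_smul_smul, h0])
      (by rw [mul_smul, mul_smul, inv_smul_smul, h1])
    exact conj_eq_one_iff.1 h
  obtain ⟨K, p, j, -, -, -, -, -, -, hKtr, hKreg, -, hmem⟩ :=
    exists_regular_normal_of_sharply_two h2N hsharp hX
  haveI := hKtr
  refine ⟨K.map N.subtype, ⟨?_⟩, ⟨fun x y => ?_⟩, fun x => ?_⟩
  · rintro _ ⟨k, hk, rfl⟩ g
    refine ⟨⟨g * k * g⁻¹, Subgroup.Normal.conj_mem ‹_› _ k.2 g⟩, (hmem _).2 ?_, rfl⟩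
    rcases (hmem k).1 hk with h | h
    · exact Or.inl (Subtype.ext (by simp [h]))
    · refine Or.inr fun z hz => h (g⁻¹ • z) ?_
      have hz' : (g * (k : G) * g⁻¹) • z = z := hz
      rw [mul_smul, mul_smul, ← eq_inv_smul_iff] at hz'
      exact hz'
  · obtain ⟨k, hk⟩ := exists_smul_eq K x y
    exact ⟨⟨_, ⟨(k : N), k.2, rfl⟩⟩, hk⟩
  · refine (Subgroup.eq_bot_iff_forall _).2 ?_
    rintro ⟨_, k, hk, rfl⟩ hfix
    have h1 : (⟨k, hk⟩ : K) = 1 := by
      rw [← Subgroup.mem_bot, ← hKreg x]; exact hfix
    have hk1 : k = 1 := congrArg Subtype.val h1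
    subst hk1
    exact Subtype.ext rfl

/-- Jordan's theorem on normal subgroups of multiply transitive groups. -/
theorem normal_multiplyPretransitive (k : ℕ) :
    ∀ {G : Type u} [Group G] [Finite G] {X : Type v} [MulAction G X] [FaithfulSMul G X]
      [Finite X], 2 ≤ k → k < Nat.card X → IsMultiplyPretransitive G X k →
      ∀ (N : Subgroup G) [N.Normal], N ≠ ⊥ →
        IsMultiplyPretransitive N X (k - 1) ∨
          (k = 3 ∧ IsPretransitive N X ∧ (∀ a : X, stabilizer N a = ⊥) ∧ IsMulCommutative N ∧
            ∀ n ∈ N, n ^ 2 = 1) := by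
  induction k using Nat.strong_induction_on with
  | _ k ih =>
  intro G _ _ X _ _ _ hk hkX hG N _ hN
  have h2 : IsMultiplyPretransitive G X 2 :=
    isMultiplyPretransitive_of_le (n := k) hk hkX.le
  haveI := isPreprimitive_of_is_two_pretransitive h2
  haveI : IsPretransitive N X := isPretransitive_normal hN
  rcases eq_or_lt_of_le hk with rfl | hk3
  · exact Or.inl (is_one_pretransitive_iff.2 ‹_›)
  obtain ⟨a⟩ : Nonempty X := (Nat.card_pos_iff.1 (show 0 < Nat.card X by omega)).1
  by_cases hNa : stabilizer N a = ⊥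
  · have hreg := stabilizer_eq_bot_of_normal hNa
    rcases eq_or_lt_of_le (show 3 ≤ k from hk3) with rfl | hk4
    · right
      haveI : Nonempty X := ⟨a⟩
      have hexp := (regular_normal_exponent_two_of_three_transitive hG N hreg).resolve_left
        (by omega)
      exact ⟨rfl, ‹_›, hreg,
        (regular_normal_elementary_of_two_transitive h2 (by omega) N hreg).1, hexp⟩
    · exfalso
      have h4 : IsMultiplyPretransitive G X 4 :=
        isMultiplyPretransitive_of_le (n := k) hk4 hkX.le
      have := card_le_four_of_regular_normal h4 (by omega) N hreg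
      omega
  haveI := faithfulSMul_ofStabilizer (G := G) a
  have hGa : IsMultiplyPretransitive (stabilizer G a) (SubMulAction.ofStabilizer G a) (k - 1) :=
    SubMulAction.ofStabilizer.isMultiplyPretransitive.1
      (by rwa [Nat.succ_eq_add_one, Nat.sub_add_cancel (by omega : 1 ≤ k)])
  have hne : N.subgroupOf (stabilizer G a) ≠ ⊥ := by
    obtain ⟨n, hn, hn1⟩ := (Subgroup.ne_bot_iff_exists_ne_one.1 hNa).elim
      fun n hn => (⟨(n : N), n.2, fun e => hn (Subtype.ext e)⟩ :
        ∃ n : N, n ∈ stabilizer N a ∧ n ≠ 1)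
    intro h
    have h3 : (⟨(n : G), hn⟩ : stabilizer G a) = 1 := by
      rw [← Subgroup.mem_bot, ← h]; exact n.2
    exact hn1 (Subtype.ext (congrArg (fun z : stabilizer G a => (z : G)) h3))
  rcases ih (k - 1) (by omega) (by omega) (by rw [card_ofStabilizer]; omega) hGa
    (N.subgroupOf (stabilizer G a)) hne with h | ⟨hk4, htr, hreg, -, -⟩
  · left
    have := isMultiplyPretransitive_of_subgroupOf a h
    rwa [show k - 1 - 1 + 1 = k - 1 by omega] at this
  · exfalso
    obtain ⟨L, hLn, hLt, hLreg⟩ := exists_regular_normal_of_stabilizer_regular (N := N)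
      (by omega) a htr (fun b hb n hn hna hnb => by
        have h1 : (⟨⟨n, hna⟩, hn⟩ : N.subgroupOf (stabilizer G a)) = 1 := by
          rw [← Subgroup.mem_bot,
            ← hreg ⟨b, (SubMulAction.mem_ofStabilizer_iff (G := G) a).2 hb⟩]
          exact Subtype.ext hnb
        exact congrArg (fun z : N.subgroupOf (stabilizer G a) => ((z : stabilizer G a) : G)) h1)
    have h4 : IsMultiplyPretransitive G X 4 := by
      rwa [show k = 4 by omega] at hG
    haveI := hLn
    haveI := hLt
    have := card_le_four_of_regular_normal h4 (by omega) L hLreg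
    omega

/-- A non-regular normal subgroup of a `k`-primitive group which is not the symmetric group is
`k`-transitive. -/
theorem normal_multiplyPretransitive_of_primitive (k : ℕ) :
    ∀ {G : Type u} [Group G] [Finite G] {X : Type v} [MulAction G X] [FaithfulSMul G X]
      [Finite X], 1 ≤ k → k ≤ Nat.card X → IsMultiplyPreprimitive G X k →
      Nat.card G < (Nat.card X).factorial →
      ∀ (N : Subgroup G) [N.Normal], N ≠ ⊥ → (k = 1 ∨ ∃ a : X, stabilizer N a ≠ ⊥) →
        IsMultiplyPretransitive N X k := by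
  induction k using Nat.strong_induction_on with
  | _ k ih =>
  intro G _ _ X _ _ _ hk hkX hG hcard N _ hN hnr
  haveI := hG
  haveI hprim : IsPreprimitive G X :=
    (is_one_preprimitive_iff G X).1 (isMultiplyPreprimitive_of_le G X hG hk (by
      rw [ENat.card_eq_coe_natCard]; exact_mod_cast hkX))
  haveI : IsPretransitive N X := isPretransitive_normal hN
  rcases eq_or_lt_of_le hk with rfl | hk2
  · exact is_one_pretransitive_iff.2 ‹_›
  obtain ⟨a, ha⟩ := hnr.resolve_left (by omega)
  haveI := faithfulSMul_ofStabilizer (G := G) a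
  haveI : IsMultiplyPreprimitive G X ((k - 1).succ) := by
    rwa [Nat.succ_eq_add_one, Nat.sub_add_cancel hk]
  have hGa : IsMultiplyPreprimitive (stabilizer G a) (SubMulAction.ofStabilizer G a) (k - 1) :=
    isMultiplyPreprimitive_ofStabilizer G X
  have hne : N.subgroupOf (stabilizer G a) ≠ ⊥ := by
    obtain ⟨n, hn, hn1⟩ := (Subgroup.ne_bot_iff_exists_ne_one.1 ha).elim
      fun n hn => (⟨(n : N), n.2, fun e => hn (Subtype.ext e)⟩ :
        ∃ n : N, n ∈ stabilizer N a ∧ n ≠ 1)
    intro h
    have h3 : (⟨(n : G), hn⟩ : stabilizer G a) = 1 := by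
      rw [← Subgroup.mem_bot, ← h]; exact n.2
    exact hn1 (Subtype.ext (congrArg (fun z : stabilizer G a => (z : G)) h3))
  have hcarda : Nat.card (stabilizer G a) <
      (Nat.card (SubMulAction.ofStabilizer G a)).factorial := by
    rw [card_ofStabilizer]
    rw [← card_mul_card_stabilizer (G := G) a,
      ← Nat.mul_factorial_pred (show Nat.card X ≠ 0 by omega)] at hcard
    exact Nat.lt_of_mul_lt_mul_left hcard
  by_cases hreg : k - 1 = 1 ∨
      ∃ b : SubMulAction.ofStabilizer G a, stabilizer (N.subgroupOf (stabilizer G a)) b ≠ ⊥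
  · have := isMultiplyPretransitive_of_subgroupOf a (ih (k - 1) (by omega) (by omega)
      (by rw [card_ofStabilizer]; omega) hGa hcarda (N.subgroupOf (stabilizer G a)) hne hreg)
    rwa [Nat.sub_add_cancel hk] at this
  push Not at hreg
  exfalso
  obtain ⟨hk1, hreg⟩ := hreg
  haveI : IsPreprimitive (stabilizer G a) (SubMulAction.ofStabilizer G a) :=
    (is_one_preprimitive_iff _ _).1 (isMultiplyPreprimitive_of_le _ _ hGa (by omega) (by
      rw [ENat.card_eq_coe_natCard, card_ofStabilizer]
      exact_mod_cast (show k - 1 ≤ Nat.card X - 1 by omega)))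
  obtain ⟨L, hLn, hLt, hLreg⟩ := exists_regular_normal_of_stabilizer_regular (N := N)
    (by omega) a (isPretransitive_normal hne) (fun b hb n hn hna hnb => by
      have h1 : (⟨⟨n, hna⟩, hn⟩ : N.subgroupOf (stabilizer G a)) = 1 := by
        rw [← Subgroup.mem_bot,
          ← hreg ⟨b, (SubMulAction.mem_ofStabilizer_iff (G := G) a).2 hb⟩]
        exact Subtype.ext hnb
      exact congrArg (fun z : N.subgroupOf (stabilizer G a) => ((z : stabilizer G a) : G)) h1)
  haveI := hLn
  haveI := hLt
  have h3 : IsMultiplyPreprimitive G X 3 :=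
    isMultiplyPreprimitive_of_le G X hG (by omega) (by
      rw [ENat.card_eq_coe_natCard]; exact_mod_cast hkX)
  obtain ⟨s, -, hs⟩ : ∃ s : Set X, s ⊆ Set.univ ∧ s.ncard = 3 :=
    Set.exists_subset_card_eq (by rw [Set.ncard_univ]; omega)
  have hidx := IsMultiplyPretransitive.index_of_fixingSubgroup_mul
    (IsMultiplyPreprimitive.isMultiplyPretransitive G X 3) hs
  have hdvd := Subgroup.index_dvd_card (fixingSubgroup G s)
  have hle := Nat.le_of_dvd Nat.card_pos hdvd
  rcases card_of_three_primitive_regular_normal (by omega) h3 L hLreg with h | h <;>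
    rw [h] at hidx hcard <;> simp [Nat.factorial] at hidx hcard <;> omega

end CfsgLib.PermGroups
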